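import Mathlib
import Cfsg.Prelude.Def_Local
import Cfsg.Prelude.Def_PLocal
import Cfsg.Prelude.Def_SolvableStructure
import Cfsg.Agent.Lib.Helper60.FrattAut

/-! Interface for the S4394 project (helper72): Sylow subgroups of Schmidt groups and
`p`-length one.  Definitions and the exact statements of the pieces. -/

set_option autoImplicit false

namespace Cfsg.Agent.Lib.Helper72.SC

open scoped commutatorElement

universe u

/-- abstract property of the normal Sylow subgroup of a minimal non-nilpotent group: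
an automorphism `y` of prime order `q ≠ p` fixing every proper `y`-invariant subgroup pointwise -/
def SchP (p : ℕ) (P : Type*) [Group P] : Prop :=
  ∃ (y : MulAut P) (q : ℕ), q.Prime ∧ q ≠ p ∧ y ^ q = 1 ∧ y ≠ 1 ∧
    ∀ K : Subgroup P, K ≠ ⊤ → (∀ k ∈ K, y k ∈ K) → ∀ k ∈ K, y k = k

/-- `Z` is central in `Q`, `Q / Z` is elementary abelian and every non-central element `u` of `Q`
has `[u, Q] = Z` -/
def SE {G : Type*} [Group G] (p : ℕ) (Q Z : Subgroup G) : Prop :=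
  Z ≤ Q ∧ (∀ z ∈ Z, ∀ u ∈ Q, u * z = z * u) ∧ (∀ u ∈ Q, ∀ v ∈ Q, ⁅u, v⁆ ∈ Z) ∧
    (∀ u ∈ Q, u ^ p ∈ Z) ∧ (∀ u ∈ Q, u ∉ Z → ∀ z ∈ Z, ∃ v ∈ Q, ⁅u, v⁆ = z)

/-- the centre of a subgroup, as a subgroup of the ambient group -/
def zc {G : Type*} [Group G] (Q : Subgroup G) : Subgroup G :=
  (Subgroup.center ↥Q).map Q.subtype

/-- the Frattini quotient of `O_p(G)` -/
abbrev VV (p : ℕ) (G : Type*) [Group G] : Type _ :=
  ↥(Cfsg.pCore p G) ⧸ frattini ↥(Cfsg.pCore p G)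

/-- the conjugation action of `G` on the Frattini quotient of `O_p(G)` -/
noncomputable def rho (p : ℕ) (G : Type*) [Group G] : G →* MulAut (VV p G) :=
  (Cfsg.Agent.Lib.Helper60.autQuot (frattini ↥(Cfsg.pCore p G))).comp MulAut.conjNormal

/-- the Frattini subgroup of `O_p(G)` as a subgroup of `G` -/
def fr (p : ℕ) (G : Type*) [Group G] : Subgroup G :=
  (frattini ↥(Cfsg.pCore p G)).map (Cfsg.pCore p G).subtype

/-- the image of `Q` in the automorphism group of the Frattini quotient of `O_p(G)` -/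
noncomputable def AQ (p : ℕ) {G : Type*} [Group G] (Q : Subgroup G) : Subgroup (MulAut (VV p G)) :=
  Q.map (rho p G)

/-- conclusion of the external failure-of-factorization lemma -/
def FFC (p : ℕ) {V : Type*} [Group V] (A : Subgroup (MulAut V)) (W U : Subgroup V)
    (x : MulAut V) : Prop :=
  x ∈ A ∧ Nat.card ↥W = p ^ 2 ∧ W ⊓ U = ⊥ ∧ W ⊔ U = ⊤ ∧ (∀ a ∈ A, ∀ w ∈ W, a w ∈ W) ∧
    (∀ a ∈ A, ∀ u ∈ U, a u ∈ U) ∧ (∃ w ∈ W, x w ≠ w) ∧
    (∀ a ∈ A, ∃ i : ℕ, ∀ w ∈ W, a w = (x ^ i) w)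

/-- the holomorph-type ambient group `V ⋊ Aut V` -/
abbrev Gam (V : Type*) [Group V] : Type _ := V ⋊[MonoidHom.id (MulAut V)] MulAut V

/-- `V` inside `V ⋊ Aut V` -/
def Vs (V : Type*) [Group V] : Subgroup (Gam V) :=
  (SemidirectProduct.inl : V →* Gam V).range

/-- a group of automorphisms inside `V ⋊ Aut V` -/
def up {V : Type*} [Group V] (B : Subgroup (MulAut V)) : Subgroup (Gam V) :=
  B.map (SemidirectProduct.inr : MulAut V →* Gam V)

/-- the subgroup generated by the best offenders on `V` inside (the image of) `Gb` -/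
def Hs (p : ℕ) {V : Type*} [Group V] (Gb : Subgroup (MulAut V)) : Subgroup (Gam V) :=
  ⨆ A : {A : Subgroup (Gam V) // A ≤ up Gb ∧ Cfsg.IsBestOffenderOn p (Vs V) A},
    (A : Subgroup (Gam V))

/-! ### statements of the pieces -/

/-- SC-SCH -/
def SchStmt.{w} : Prop :=
  ∀ (X : Type w) [Group X] [Finite X] (p : ℕ) [Fact p.Prime], Cfsg.IsMinimalNonNilpotent X →
    ∀ P : Sylow p X, (P : Subgroup X).Normal → (P : Subgroup X) ≠ ⊥ → SchP p ↥(P : Subgroup X)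

/-- SC-STR1 -/
def Str1Stmt.{w} : Prop :=
  ∀ (P : Type w) [Group P] [Finite P] (p : ℕ) [Fact p.Prime], IsPGroup p P →
    ∀ (y : MulAut P) (q : ℕ), q.Prime → q ≠ p → y ^ q = 1 → y ≠ 1 →
      (∀ K : Subgroup P, K ≠ ⊤ → (∀ k ∈ K, y k ∈ K) → ∀ k ∈ K, y k = k) →
      Subgroup.closure {c : P | ∃ u : P, c = u⁻¹ * y u} = ⊤ ∧
        ∀ N : Subgroup P, N.Normal → (∀ n ∈ N, y n = n) → N ≤ Subgroup.center P

/-- SC-STR2 -/
def Str2Stmt.{w} : Prop :=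
  ∀ (G : Type w) [Group G] [Finite G] (p : ℕ) [Fact p.Prime] (Q : Subgroup G),
    IsPGroup p ↥Q → SchP p ↥Q → SE p Q (zc Q)

/-- SC-FIN -/
def FinStmt.{w} : Prop :=
  ∀ (P : Type w) [Group P] [Finite P] (p : ℕ) [Fact p.Prime], IsPGroup p P → SchP p P →
    (p = 2 ∨ p = 3) → (∀ u v : P, ⁅u, v⁆ ∈ Subgroup.center P) →
    (∀ u : P, u ^ p ∈ Subgroup.center P) →
    (∀ u : P, u ∉ Subgroup.center P → ∀ z ∈ Subgroup.center P, ∃ v : P, ⁅u, v⁆ = z) →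
    (Subgroup.center P).index = p ^ 2 →
    ∀ R Z1 : Subgroup P, Subgroup.center P ≤ R → R.index = p → Z1 ≤ Subgroup.center P →
      Z1 ≠ Subgroup.center P → (∀ u ∈ R, u ^ p ∈ Z1) → False

/-- SC-PAIR -/
def PairStmt.{w} : Prop :=
  ∀ (G : Type w) [Group G] [Finite G] (p : ℕ) [Fact p.Prime] (Q Z R Z1 : Subgroup G),
    IsPGroup p ↥Q → SE p Q Z → Z ≤ R → R ≤ Q → Z1 ≤ Z → Z1 ≠ Z →
    (∀ u ∈ R, ∀ v ∈ R, ⁅u, v⁆ ∈ Z1) → Z.relIndex R ≤ R.relIndex Q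

/-- SC-KER -/
def KerStmt.{w} : Prop :=
  ∀ (G : Type w) [Group G] [Finite G] (p : ℕ) [Fact p.Prime], Cfsg.IsPSolvable p G →
    Cfsg.pPrimeCore p G = ⊥ → (rho p G).ker = Cfsg.pCore p G

/-- SC-RNG -/
def RngStmt.{w} : Prop :=
  ∀ (G : Type w) [Group G] [Finite G] (p : ℕ) [Fact p.Prime], Cfsg.IsPSolvable p G →
    Cfsg.pPrimeCore p G = ⊥ →
    Cfsg.IsPSolvable p ↥(rho p G).range ∧ Cfsg.pCore p ↥(rho p G).range = ⊥

/-- SC-BAS -/
def BasStmt.{w} : Prop :=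
  ∀ (G : Type w) [Group G] [Finite G] (p : ℕ) [Fact p.Prime] (Q : Sylow p G),
    Cfsg.IsPSolvable p G → Cfsg.pPrimeCore p G = ⊥ →
    SE p (Q : Subgroup G) (zc (Q : Subgroup G)) → (Q : Subgroup G) ≠ Cfsg.pCore p G →
    zc (Q : Subgroup G) ≤ Cfsg.pCore p G ∧ fr p G ≤ zc (Q : Subgroup G) ∧
      fr p G ≠ zc (Q : Subgroup G)

/-- SC-OFF -/
def OffStmt.{w} : Prop :=
  ∀ (G : Type w) [Group G] [Finite G] (p : ℕ) [Fact p.Prime] (Q : Sylow p G),
    Cfsg.IsPSolvable p G → Cfsg.pPrimeCore p G = ⊥ →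
    SE p (Q : Subgroup G) (zc (Q : Subgroup G)) → (Q : Subgroup G) ≠ Cfsg.pCore p G →
    Nat.card (VV p G) ≤ Nat.card ↥(AQ p (Q : Subgroup G)) *
      Nat.card {v : VV p G // ∀ a ∈ AQ p (Q : Subgroup G), a v = v}

/-- SC-FFA -/
def FfaStmt.{w} : Prop :=
  ∀ (V : Type w) [Group V] [Finite V] (p : ℕ) [Fact p.Prime] (Gb : Subgroup (MulAut V)),
    (∀ a b : V, a * b = b * a) → (∀ v : V, v ^ p = 1) →
    Cfsg.IsElementaryAbelian p (Vs V) ∧ Hs p Gb ≤ up Gb ∧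
      up Gb ≤ Subgroup.normalizer ((Hs p Gb : Subgroup (Gam V)) : Set (Gam V)) ∧
      Hs p Gb ≤ Subgroup.normalizer ((Vs V : Subgroup (Gam V)) : Set (Gam V)) ∧
      Hs p Gb ⊓ Subgroup.centralizer ((Vs V : Subgroup (Gam V)) : Set (Gam V)) = ⊥ ∧
      Hs p Gb = ⨆ A : {A : Subgroup (Gam V) // A ≤ Hs p Gb ∧ Cfsg.IsBestOffenderOn p (Vs V) A},
        (A : Subgroup (Gam V))

/-- SC-FFB -/
def FfbStmt.{w} : Prop :=
  ∀ (V : Type w) [Group V] [Finite V] (p : ℕ) [Fact p.Prime] (Gb : Subgroup (MulAut V)),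
    (∀ a b : V, a * b = b * a) → (∀ v : V, v ^ p = 1) →
    Cfsg.IsPSolvable p ↥Gb → Cfsg.pCore p ↥Gb = ⊥ →
    Subgroup.centralizer (Cfsg.pPrimeCore p ↥(Hs p Gb) : Set ↥(Hs p Gb)) ≤
      Cfsg.pPrimeCore p ↥(Hs p Gb)

/-- SC-FFO -/
def FfoStmt.{w} : Prop :=
  ∀ (V : Type w) [Group V] [Finite V] (p : ℕ) [Fact p.Prime] (A : Subgroup (MulAut V)),
    (∀ a b : V, a * b = b * a) → (∀ v : V, v ^ p = 1) →
    (∀ a ∈ A, ∀ b ∈ A, a * b = b * a) → (∀ a ∈ A, a ^ p = 1) → A ≠ ⊥ →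
    Nat.card V ≤ Nat.card ↥A * Nat.card {v : V // ∀ a ∈ A, a v = v} →
    ∃ B : Subgroup (MulAut V), B ≤ A ∧ Cfsg.IsBestOffenderOn p (Vs V) (up B) ∧
      ⁅Vs V, up B⁆ ≠ ⊥

/-- SC-FFE -/
def FfeStmt.{w} : Prop :=
  ∀ (V : Type w) [Group V] [Finite V] (p : ℕ) [Fact p.Prime] (A : Subgroup (MulAut V))
    (W : Subgroup V) (x : MulAut V),
    (∀ a b : V, a * b = b * a) → (∀ v : V, v ^ p = 1) → (∀ a ∈ A, a ^ p = 1) → x ∈ A →
    Nat.card ↥W = p ^ 2 → (∀ a ∈ A, ∀ w ∈ W, a w ∈ W) → (∃ w ∈ W, x w ≠ w) →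
    ∀ a ∈ A, ∃ i : ℕ, ∀ w ∈ W, a w = (x ^ i) w

/-- the external failure-of-factorization lemma (SC-FFD proves it from FFA, FFB, FFO, FFE) -/
def FfxStmt.{w} : Prop :=
  ∀ (V : Type w) [Group V] [Finite V] (p : ℕ) [Fact p.Prime] (Gb A : Subgroup (MulAut V)),
    (∀ a b : V, a * b = b * a) → (∀ v : V, v ^ p = 1) →
    Cfsg.IsPSolvable p ↥Gb → Cfsg.pCore p ↥Gb = ⊥ → A ≤ Gb →
    (∀ a ∈ A, ∀ b ∈ A, a * b = b * a) → (∀ a ∈ A, a ^ p = 1) → A ≠ ⊥ →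
    Nat.card V ≤ Nat.card ↥A * Nat.card {v : V // ∀ a ∈ A, a v = v} →
    (p = 2 ∨ p = 3) ∧ ∃ (W U : Subgroup V) (x : MulAut V), FFC p A W U x

/-- SC-ENDA -/
def EndaStmt.{w} : Prop :=
  ∀ (G : Type w) [Group G] [Finite G] (p : ℕ) [Fact p.Prime] (Q : Sylow p G),
    Cfsg.IsPSolvable p G → Cfsg.pPrimeCore p G = ⊥ →
    SE p (Q : Subgroup G) (zc (Q : Subgroup G)) → (Q : Subgroup G) ≠ Cfsg.pCore p G →
    ∀ (W U : Subgroup (VV p G)) (x : MulAut (VV p G)), FFC p (AQ p (Q : Subgroup G)) W U x →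
      (fr p G).relIndex (zc (Q : Subgroup G)) = p ∧ U = ⊥

/-- SC-ENDB -/
def EndbStmt.{w} : Prop :=
  ∀ (G : Type w) [Group G] [Finite G] (p : ℕ) [Fact p.Prime] (Q : Sylow p G),
    Cfsg.IsPSolvable p G → Cfsg.pPrimeCore p G = ⊥ →
    SE p (Q : Subgroup G) (zc (Q : Subgroup G)) → (Q : Subgroup G) ≠ Cfsg.pCore p G →
    ∀ (W U : Subgroup (VV p G)) (x : MulAut (VV p G)), FFC p (AQ p (Q : Subgroup G)) W U x →
      (fr p G).relIndex (zc (Q : Subgroup G)) = p → U = ⊥ →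
      (zc (Q : Subgroup G)).relIndex (Q : Subgroup G) = p ^ 2 ∧
        (Cfsg.pCore p G).relIndex (Q : Subgroup G) = p

/-- the core case `O_{p'}(G) = 1` -/
def CoreStmt.{w} : Prop :=
  ∀ (G : Type w) [Group G] [Finite G] (p : ℕ) [Fact p.Prime] (Q : Sylow p G),
    Cfsg.IsPSolvable p G → Cfsg.pPrimeCore p G = ⊥ → SchP p ↥(Q : Subgroup G) →
    (Q : Subgroup G) = Cfsg.pCore p G

/-- SC-RED -/
def RedStmt.{w} : Prop :=
  CoreStmt.{w} → ∀ (G : Type w) [Group G] [Finite G] (p : ℕ) [Fact p.Prime] (Q : Sylow p G),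
    Cfsg.IsPSolvable p G → SchP p ↥(Q : Subgroup G) → Cfsg.PLengthLE p 1 G

/-- `SchP` is invariant under isomorphism -/
theorem SchP.of_equiv {p : ℕ} {P P' : Type*} [Group P] [Group P'] (e : P ≃* P')
    (h : SchP p P) : SchP p P' := by
  obtain ⟨y, q, hq, hqp, hyq, hy1, hK⟩ := h
  refine ⟨e.symm.trans (y.trans e), q, hq, hqp, ?_, ?_, ?_⟩
  · have key : ∀ n : ℕ, ∀ x : P', ((e.symm.trans (y.trans e)) ^ n) x = e ((y ^ n) (e.symm x)) := by
      intro n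
      induction n with
      | zero => intro x; simp
      | succ n ih =>
        intro x
        rw [pow_succ, MulAut.mul_apply, ih, pow_succ, MulAut.mul_apply]
        simp
    ext x
    rw [key, hyq]
    simp
  · intro h1
    apply hy1
    ext x
    have h2 := congrArg (fun f : MulAut P' => f (e x)) h1
    simp only [MulEquiv.trans_apply, MulEquiv.symm_apply_apply, MulAut.one_apply] at h2
    simpa using e.injective h2
  · intro K hKtop hKinv k hk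
    have hK' : K.comap e.toMonoidHom ≠ ⊤ := by
      intro htop
      apply hKtop
      rw [eq_top_iff]
      intro x _
      have : e.symm x ∈ K.comap e.toMonoidHom := by rw [htop]; trivial
      simpa using this
    have h3 := hK (K.comap e.toMonoidHom) hK' (fun a ha => by
      have := hKinv (e a) ha
      simpa using this) (e.symm k) (by simpa using hk)
    show e (y (e.symm k)) = k
    rw [h3]
    simp

end Cfsg.Agent.Lib.Helper72.SC
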