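import Mathlib
import Cfsg.Agent.Lib.Helper22.BlockOrth
import Cfsg.Agent.Lib.Helper22.Local
import Cfsg.Agent.Lib.Helper82.PQ
import Cfsg.Agent.Lib.Helper4.CharBurnside
import Cfsg.Agent.Lib.Helper4.Eigen
import Cfsg.Agent.Lib.Helper4.CharSimple
import Cfsg.Agent.Lib.Helper79.Blk2
import Cfsg.Agent.Lib.Helper83.Codeg

set_option autoImplicit false
set_option linter.style.haveILetI false

/-!
# Kazarin's theorem: the character-theoretic lemma

If the conjugacy class of `x` has prime power size `p ^ a` and a prime `r ≠ p` divides `|G|` but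
not the order of `x`, then `x` lies in a proper normal subgroup of `G`: some non-principal
character `χ` of the principal `r`-block has degree prime to `p` (block orthogonality between the
`r`-sections of `1` and of an element of order `r`); by Burnside's lemma `χ x = 0` or `x` acts as
a scalar `ω`; comparing central characters with the principal character modulo `r` excludes
`χ x = 0` and forces `ω = 1`, so `x ∈ ker χ`.
-/

namespace Cfsg.Agent.Lib.Helper72

open scoped ComplexConjugate
open Module Cfsg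

universe u

theorem kazK_ncard_carrier {G : Type*} [Group G] (x : G) :
    (ConjClasses.mk x).carrier.ncard = (Subgroup.centralizer ({x} : Set G)).index := by
  have h1 := Subgroup.index_comap_of_surjective (MulAction.stabilizer (ConjAct G) x)
    (f := (ConjAct.toConjAct (G := G)).toMonoidHom) (MulEquiv.surjective _)
  rw [← ConjAct.orbit_eq_carrier_conjClasses, ← MulAction.index_stabilizer,
    Subgroup.centralizer_eq_comap_stabilizer]
  exact h1.symm

theorem kazK_card_conj {G : Type*} [Group G] [Fintype G] [DecidableEq G] (x : G) :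
    (Finset.univ.filter (fun z : G => IsConj z x)).card =
      (Subgroup.centralizer ({x} : Set G)).index := by
  rw [← kazK_ncard_carrier x, ← Set.ncard_coe_finset]
  congr 1
  ext z
  simp [ConjClasses.mem_carrier_iff_mk_eq, ConjClasses.mk_eq_mk_iff_isConj]

/-- **Lemma K** (the character-theoretic step of Kazarin's theorem). -/
theorem kazarin_lemmaK {G : Type u} [Group G] [Finite G] (x : G) (p a : ℕ) (hp : p.Prime)
    (hx : (Subgroup.centralizer ({x} : Set G)).index = p ^ a) (r : ℕ) (hr : r.Prime)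
    (hrp : r ≠ p) (hrG : r ∣ Nat.card G) (hrx : ¬ r ∣ orderOf x) :
    ∃ N : Subgroup G, N.Normal ∧ N ≠ ⊤ ∧ x ∈ N := by
  classical
  haveI : Fact r.Prime := ⟨hr⟩
  obtain ⟨M, hM⟩ := Cfsg.Agent.Lib.Helper82.exists_isPModular r
  haveI := Cfsg.Agent.Lib.Helper22.isPrime_of_isPModular hM
  letI : Fintype G := Fintype.ofFinite G
  haveI : Finite (IrrCharacter G) := Cfsg.Agent.Lib.Helper4.irr_finite
  obtain ⟨y, hy⟩ := exists_prime_orderOf_dvd_card' r hrG
  set B := principalBlock M G with hB
  have hBfin : B.Finite := Set.toFinite B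
  have hr1 : ¬ r ∣ orderOf (1 : G) := by
    rw [orderOf_one]
    exact fun h => hr.one_lt.ne' (Nat.dvd_one.mp h)
  have horth : ∑ᶠ χ ∈ B, (χ : G → ℂ) y * conj ((χ : G → ℂ) 1) = 0 := by
    apply Cfsg.Agent.Lib.Helper22.block_orth_sections hM B
      Cfsg.Agent.Lib.Helper79.isPBlock_principalBlock (x := y) (y := 1)
    · exact ⟨1, mul_one y, Commute.one_right y, ⟨1, by rw [hy, pow_one]⟩, hr1⟩
    · exact ⟨1, mul_one 1, Commute.one_right 1, ⟨0, by rw [orderOf_one, pow_zero]⟩, hr1⟩
    · rw [isConj_one_left]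
      intro h
      rw [h, orderOf_one] at hy
      exact hr.one_lt.ne hy
  -- a non-principal character of the principal block of degree prime to `p`
  have hex : ∃ χ ∈ B, χ ≠ Cfsg.Agent.Lib.Helper83.trivIrr G ∧
      ¬ p ∣ charDegree (χ : G → ℂ) := by
    by_contra hcon
    push Not at hcon
    rw [finsum_mem_eq_finite_toFinset_sum _ hBfin] at horth
    have htriv : Cfsg.Agent.Lib.Helper83.trivIrr G ∈ hBfin.toFinset := by
      rw [Set.Finite.mem_toFinset]
      exact Cfsg.Agent.Lib.Helper79.trivIrr_mem_principalBlock hM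
    rw [← Finset.add_sum_erase _ _ htriv] at horth
    have key : ∑ χ ∈ hBfin.toFinset.erase (Cfsg.Agent.Lib.Helper83.trivIrr G),
        (χ : G → ℂ) y * conj ((χ : G → ℂ) 1) =
        (p : ℂ) * ∑ χ ∈ hBfin.toFinset.erase (Cfsg.Agent.Lib.Helper83.trivIrr G),
          (χ : G → ℂ) y * ((charDegree (χ : G → ℂ) / p : ℕ) : ℂ) := by
      rw [Finset.mul_sum]
      refine Finset.sum_congr rfl fun χ hχ => ?_
      obtain ⟨hne, hmem⟩ := Finset.mem_erase.mp hχ
      obtain ⟨m, hm⟩ := hcon χ ((Set.Finite.mem_toFinset hBfin).mp hmem) hne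
      rw [(Cfsg.Agent.Lib.Helper83.irr_degree χ.2).2, Complex.conj_natCast, hm,
        Nat.mul_div_cancel_left m hp.pos]
      push_cast
      ring
    rw [key] at horth
    set z := ∑ χ ∈ hBfin.toFinset.erase (Cfsg.Agent.Lib.Helper83.trivIrr G),
          (χ : G → ℂ) y * ((charDegree (χ : G → ℂ) / p : ℕ) : ℂ) with hz
    have hzint : IsIntegral ℤ z :=
      IsIntegral.sum _ fun χ _ =>
        (Cfsg.Agent.Lib.Helper4.irr_isIntegral χ y).mul (isIntegral_natCast _)
    have hp0 : (p : ℂ) ≠ 0 := by exact_mod_cast hp.ne_zero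
    have h1 : ((1 : ℕ) : ℂ) / (p : ℂ) = -z := by
      rw [Cfsg.Agent.Lib.Helper83.trivIrr_apply, Cfsg.Agent.Lib.Helper83.trivIrr_apply,
        map_one, one_mul] at horth
      field_simp
      push_cast
      linear_combination horth
    have h2 : IsIntegral ℤ (((1 : ℕ) : ℂ) / (p : ℂ)) := by
      rw [h1]
      exact hzint.neg
    have h3 := Cfsg.Agent.Lib.Helper4.dvd_of_isIntegral_div 1 p hp.ne_zero h2
    exact hp.one_lt.ne' (Nat.dvd_one.mp h3)
  obtain ⟨χ, hχB, hχne, hχp⟩ := hex
  refine ⟨Cfsg.Agent.Lib.Helper83.irrKer χ, inferInstance,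
    fun h => hχne ((Cfsg.Agent.Lib.Helper83.irrKer_eq_top_iff χ).mp h), ?_⟩
  rw [Cfsg.Agent.Lib.Helper83.mem_irrKer]
  obtain ⟨n, ρ, hρ, hρχ⟩ := χ.2
  haveI := hρ
  have hdeg : (χ : G → ℂ) 1 = (n : ℂ) := by
    rw [← hρχ, Representation.char_one]
    simp
  have hn : n = charDegree (χ : G → ℂ) := by
    have := (Cfsg.Agent.Lib.Helper83.irr_degree χ.2).2
    rw [hdeg] at this
    exact_mod_cast this
  have hnpos : 0 < n := hn ▸ (Cfsg.Agent.Lib.Helper83.irr_degree χ.2).1
  have hn0 : (n : ℂ) ≠ 0 := by exact_mod_cast hnpos.ne'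
  have hfr : finrank ℂ (Fin n → ℂ) = n := Module.finrank_fin_fun ℂ
  have hcop : Nat.Coprime (finrank ℂ (Fin n → ℂ))
      (Finset.univ.filter (fun z : G => IsConj z x)).card := by
    rw [hfr, kazK_card_conj, hx, hn]
    exact Nat.Coprime.pow_right a ((Nat.Prime.coprime_iff_not_dvd hp).mpr hχp).symm
  have hblk : MemLocalIdeal M ((p : ℂ) ^ a - (p : ℂ) ^ a * (χ : G → ℂ) x / (χ : G → ℂ) 1) := by
    have := hχB x
    simp only [centralChar, hx] at this
    simpa using this
  have hpa : ¬ MemLocalIdeal M ((p : ℂ) ^ a) := by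
    have h1 := Cfsg.Agent.Lib.Helper22.memLocalIdeal_natCast_iff hM (p ^ a)
    push_cast at h1
    rw [h1]
    intro hdvd
    exact hrp ((Nat.prime_dvd_prime_iff_eq hr hp).mp (hr.dvd_of_dvd_pow hdvd))
  rcases Cfsg.Agent.Lib.Helper4.char_eq_zero_or_norm_eq ρ x hcop with h0 | hnorm
  · exfalso
    rw [hρχ] at h0
    rw [h0] at hblk
    simp only [mul_zero, zero_div, sub_zero] at hblk
    exact hpa hblk
  · obtain ⟨ω, hω⟩ := (Cfsg.Agent.Lib.Helper4.norm_char_eq_iff ρ x).mp hnorm
    have hχx : (χ : G → ℂ) x = ω * n := by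
      rw [← hρχ, Representation.character, hω, map_smul, LinearMap.trace_id, hfr, smul_eq_mul]
    have hk : ω ^ orderOf x = 1 := by
      have h1 : (ρ x) ^ orderOf x = 1 := by rw [← map_pow, pow_orderOf_eq_one, map_one]
      rw [hω, smul_pow, ← Module.End.one_eq_id, one_pow] at h1
      have h2 := congrArg (LinearMap.trace ℂ (Fin n → ℂ)) h1
      rw [map_smul, LinearMap.trace_one, hfr, smul_eq_mul] at h2
      exact mul_right_cancel₀ hn0 (h2.trans (one_mul _).symm)
    have hωint : IsIntegral ℤ ω :=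
      IsIntegral.of_pow (orderOf_pos x) (by rw [hk]; exact isIntegral_one)
    have hωR : MemLocalRing M ω := Cfsg.Agent.Lib.Helper22.memLocalRing_of_isIntegral hωint
    have h1ω : MemLocalIdeal M (1 - ω) := by
      have h3 : (p : ℂ) ^ a - (p : ℂ) ^ a * (χ : G → ℂ) x / (χ : G → ℂ) 1 =
          (p : ℂ) ^ a * (1 - ω) := by
        rw [hχx, hdeg]
        field_simp
      rw [h3] at hblk
      have hpR : MemLocalRing M ((p : ℂ) ^ a) := by
        exact_mod_cast Cfsg.Agent.Lib.Helper22.memLocalRing_natCast (M := M) (p ^ a)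
      exact ((Cfsg.Agent.Lib.Helper22.memLocalIdeal_mul_iff hpR
        (Cfsg.Agent.Lib.Helper22.memLocalRing_sub Cfsg.Agent.Lib.Helper22.memLocalRing_one
          hωR)).mp hblk).resolve_left hpa
    have hω1 : ω = 1 := by
      by_contra hne
      apply hrx
      rw [← Cfsg.Agent.Lib.Helper22.memLocalIdeal_natCast_iff hM (orderOf x)]
      have hsum : ((orderOf x : ℕ) : ℂ) = ∑ i ∈ Finset.range (orderOf x), (1 - ω ^ i) := by
        rw [Finset.sum_sub_distrib, geom_sum_eq hne, hk]
        simp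
      rw [hsum]
      apply Cfsg.Agent.Lib.Helper22.memLocalIdeal_sum
      intro i _
      rw [← mul_neg_geom_sum ω i]
      exact Cfsg.Agent.Lib.Helper22.memLocalIdeal_mul_right h1ω
        (Cfsg.Agent.Lib.Helper22.memLocalRing_sum _ _ fun j _ =>
          Cfsg.Agent.Lib.Helper22.memLocalRing_pow hωR j)
    rw [hχx, hω1, one_mul, hdeg]

end Cfsg.Agent.Lib.Helper72
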