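import Mathlib
import Cfsg.Agent.Lib.Helper72.KazarinK
import Cfsg.Agent.Lib.Helper72.Basic
import Cfsg.Agent.Lib.Helper4.Burnside

set_option autoImplicit false
set_option linter.style.haveILetI false

/-!
# Kazarin's theorem

If the conjugacy class of `x` has prime power size, the normal closure of `x` is solvable.
Proof: induction on `|G|` and on the order of `x`, from Lemma K (`kazarin_lemmaK`) and Burnside's
`p^a q^b` theorem, phrased with the solvable radical `kazRad G`.
-/

namespace Cfsg.Agent.Lib.Helper72

universe u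

section Rad

variable {G : Type*} [Group G]

/-- The join of a normal solvable subgroup and a solvable subgroup is solvable. -/
theorem kaz_sup_solvable (A B : Subgroup G) [hA : A.Normal] (sA : Group.IsSolvable A)
    (sB : Group.IsSolvable B) : Group.IsSolvable ↥(A ⊔ B) := by
  haveI : (A.subgroupOf (A ⊔ B)).Normal := hA.subgroupOf _
  let f : B →* (A ⊔ B : Subgroup G) ⧸ A.subgroupOf (A ⊔ B) :=
    (QuotientGroup.mk' _).comp (Subgroup.inclusion le_sup_right)
  have hf : Function.Surjective f := by
    intro q
    obtain ⟨s, rfl⟩ := QuotientGroup.mk_surjective q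
    obtain ⟨a, ha, b, hb, hab⟩ : ∃ a ∈ A, ∃ b ∈ B, a * b = (s : G) := by
      have h1 : (s : G) ∈ ((A ⊔ B : Subgroup G) : Set G) := s.2
      rw [Subgroup.normal_mul] at h1
      exact Set.mem_mul.mp h1
    refine ⟨⟨b, hb⟩, ?_⟩
    show QuotientGroup.mk _ = QuotientGroup.mk s
    rw [QuotientGroup.eq, Subgroup.mem_subgroupOf]
    have h2 : (((Subgroup.inclusion (le_sup_right : B ≤ A ⊔ B) ⟨b, hb⟩)⁻¹ * s :
        ↥(A ⊔ B)) : G) = b⁻¹ * a * b⁻¹⁻¹ := by
      simp only [Subgroup.coe_mul, Subgroup.coe_inv, Subgroup.coe_inclusion]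
      rw [← hab]
      group
    rw [h2]
    exact hA.conj_mem a ha b⁻¹
  haveI : Group.IsSolvable ((A ⊔ B : Subgroup G) ⧸ A.subgroupOf (A ⊔ B)) :=
    Group.isSolvable_of_surjective hf
  refine Group.isSolvable_of_ker_le_range (Subgroup.inclusion (le_sup_left : A ≤ A ⊔ B))
    (QuotientGroup.mk' (A.subgroupOf (A ⊔ B))) ?_
  rw [QuotientGroup.ker_mk']
  intro k hk
  exact ⟨⟨k.1, hk⟩, rfl⟩

/-- The solvable radical: the join of all normal solvable subgroups. -/
def kazRad (G : Type*) [Group G] : Subgroup G :=
  sSup {L : Subgroup G | L.Normal ∧ Group.IsSolvable L}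

theorem kaz_le_rad (L : Subgroup G) (hL : L.Normal) (sL : Group.IsSolvable L) : L ≤ kazRad G :=
  le_sSup ⟨hL, sL⟩

theorem kazRad_spec [Finite G] : (kazRad G).Normal ∧ Group.IsSolvable (kazRad G) := by
  classical
  have hfin : {L : Subgroup G | L.Normal ∧ Group.IsSolvable L}.Finite := Set.toFinite _
  have h : kazRad G = hfin.toFinset.sup id := by
    rw [Finset.sup_id_eq_sSup, Set.Finite.coe_toFinset]
    rfl
  rw [h]
  refine Finset.sup_induction (p := fun L : Subgroup G => L.Normal ∧ Group.IsSolvable L)
    ⟨Subgroup.normal_bot, inferInstance⟩ ?_ ?_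
  · rintro A ⟨hA, sA⟩ B ⟨hB, sB⟩
    exact ⟨Subgroup.sup_normal A B, kaz_sup_solvable A B sA sB⟩
  · intro L hL
    exact (Set.Finite.mem_toFinset hfin).mp hL

theorem kazRad_characteristic [Finite G] : (kazRad G).Characteristic := by
  rw [Subgroup.characteristic_iff_map_le]
  intro φ
  obtain ⟨hn, hs⟩ := kazRad_spec (G := G)
  apply kaz_le_rad
  · exact hn.map φ.toMonoidHom φ.surjective
  · exact Group.isSolvable_of_surjective (f := φ.toMonoidHom.subgroupMap (kazRad G))
      (MonoidHom.subgroupMap_surjective _ _)

/-- The radical of a normal subgroup lies in the radical of the group. -/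
theorem kazRad_normal_le [Finite G] (N : Subgroup G) [N.Normal] :
    (kazRad N).map N.subtype ≤ kazRad G := by
  haveI := kazRad_characteristic (G := N)
  obtain ⟨-, hs⟩ := kazRad_spec (G := N)
  apply kaz_le_rad
  · exact ConjAct.normal_of_characteristic_of_normal
  · exact Group.isSolvable_of_surjective (f := N.subtype.subgroupMap (kazRad N))
      (MonoidHom.subgroupMap_surjective _ _)

end Rad

section aux

variable {G : Type*} [Group G]

theorem kaz_relIndex_dvd_index_normal [Finite G] (H N : Subgroup G)
    [N.Normal] : H.relIndex N ∣ H.index := by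
  have h1 : H.relIndex (H ⊔ N) * Nat.card H = Nat.card (H ⊔ N : Subgroup G) := by
    rw [← Subgroup.relIndex_bot_left, mul_comm, ← Subgroup.relIndex_bot_left]
    exact Subgroup.relIndex_mul_relIndex ⊥ H (H ⊔ N) bot_le le_sup_left
  have h2 : N.relIndex (H ⊔ N) * Nat.card N = Nat.card (H ⊔ N : Subgroup G) := by
    rw [← Subgroup.relIndex_bot_left, mul_comm, ← Subgroup.relIndex_bot_left]
    exact Subgroup.relIndex_mul_relIndex ⊥ N (H ⊔ N) bot_le le_sup_right
  rw [Subgroup.relIndex_sup_right] at h2
  have h3 : H.relIndex N * Nat.card (H ⊓ N : Subgroup G) = Nat.card N := by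
    rw [← Subgroup.inf_relIndex_right, ← Subgroup.relIndex_bot_left, mul_comm,
      ← Subgroup.relIndex_bot_left]
    exact Subgroup.relIndex_mul_relIndex ⊥ (H ⊓ N) N bot_le inf_le_right
  have h4 : N.relIndex H * Nat.card (H ⊓ N : Subgroup G) = Nat.card H := by
    rw [← Subgroup.inf_relIndex_left, ← Subgroup.relIndex_bot_left, mul_comm,
      ← Subgroup.relIndex_bot_left]
    exact Subgroup.relIndex_mul_relIndex ⊥ (H ⊓ N) H bot_le inf_le_left
  have hpos : 0 < Nat.card H := Nat.card_pos
  have heq : H.relIndex (H ⊔ N) * Nat.card H = H.relIndex N * Nat.card H := by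
    rw [h1, ← h2, ← h3, ← h4]; ring
  rw [← Nat.eq_of_mul_eq_mul_right hpos heq]
  exact Subgroup.relIndex_dvd_index_of_le le_sup_left

/-- Prime power class size passes to normal subgroups. -/
theorem kaz_index_normal [Finite G] {p : ℕ} (hp : p.Prime) (N : Subgroup G) [N.Normal] (x : N)
    (a : ℕ) (hx : (Subgroup.centralizer ({(x : G)} : Set G)).index = p ^ a) :
    ∃ b : ℕ, (Subgroup.centralizer ({x} : Set N)).index = p ^ b := by
  have heq : Subgroup.centralizer ({x} : Set N) =
      (Subgroup.centralizer ({(x : G)} : Set G)).subgroupOf N := by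
    ext n
    rw [Subgroup.mem_subgroupOf, mem_centralizer_singleton_iff', mem_centralizer_singleton_iff']
    constructor
    · intro hn; exact congrArg Subtype.val hn
    · intro hn; exact Subtype.ext hn
  have hdvd : (Subgroup.centralizer ({x} : Set N)).index ∣ p ^ a := by
    rw [heq, ← hx]
    exact kaz_relIndex_dvd_index_normal _ N
  obtain ⟨j, -, hj⟩ := (Nat.dvd_prime_pow hp).1 hdvd
  exact ⟨j, hj⟩

/-- Prime power class size passes to powers. -/
theorem kaz_index_pow {p : ℕ} (hp : p.Prime) (x : G) (a : ℕ)
    (hx : (Subgroup.centralizer ({x} : Set G)).index = p ^ a) (j : ℕ) :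
    ∃ b : ℕ, (Subgroup.centralizer ({x ^ j} : Set G)).index = p ^ b := by
  have hle : Subgroup.centralizer ({x} : Set G) ≤ Subgroup.centralizer ({x ^ j} : Set G) := by
    intro c hc
    rw [mem_centralizer_singleton_iff'] at hc ⊢
    exact ((Commute.pow_left (show Commute x c from hc) j)).eq
  have hdvd : (Subgroup.centralizer ({x ^ j} : Set G)).index ∣ p ^ a := by
    rw [← hx]
    exact Subgroup.index_dvd_of_le hle
  obtain ⟨b, -, hb⟩ := (Nat.dvd_prime_pow hp).1 hdvd
  exact ⟨b, hb⟩

theorem kaz_card_pq {n p q : ℕ} (hn : n ≠ 0) (hp : p.Prime)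
    (h : ∀ r : ℕ, r.Prime → r ∣ n → r = p ∨ r = q) : ∃ a b : ℕ, n = p ^ a * q ^ b := by
  obtain ⟨e, n', hn', rfl⟩ := Nat.exists_eq_pow_mul_and_not_dvd hn p hp.ne_one
  refine ⟨e, n'.primeFactorsList.length, ?_⟩
  congr 1
  apply Nat.eq_prime_pow_of_unique_prime_dvd
  · rintro rfl
    simp at hn
  · intro d hd hdn
    rcases h d hd (Dvd.dvd.mul_left hdn _) with rfl | rfl
    · exact absurd hdn hn'
    · rfl

end aux

/-- **Kazarin's theorem**, radical form: an element whose conjugacy class has prime power size
lies in the solvable radical. -/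
theorem kazarin_rad {p : ℕ} (hp : p.Prime) : ∀ (n : ℕ) (G : Type u) [Group G] [Finite G],
    Nat.card G = n → ∀ (x : G) (a : ℕ),
      (Subgroup.centralizer ({x} : Set G)).index = p ^ a → x ∈ kazRad G := by
  intro n
  induction n using Nat.strong_induction_on with
  | _ n ih =>
    intro G _ _ hn
    have inner : ∀ (m : ℕ) (x : G), orderOf x = m → ∀ a : ℕ,
        (Subgroup.centralizer ({x} : Set G)).index = p ^ a → x ∈ kazRad G := by
      intro m
      induction m using Nat.strong_induction_on with
      | _ m ihm =>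
        intro x hxm a hxa
        have hm0 : m ≠ 0 := hxm ▸ (orderOf_pos x).ne'
        by_cases hm1 : m = 1
        · have hx1 : x = 1 := by rw [← orderOf_eq_one_iff, hxm, hm1]
          rw [hx1]
          exact one_mem _
        have hqp : (m.minFac).Prime := Nat.minFac_prime hm1
        obtain ⟨e, m', hm', hmm⟩ := Nat.exists_eq_pow_mul_and_not_dvd hm0 m.minFac hqp.ne_one
        set q := m.minFac with hq
        have hm'0 : m' ≠ 0 := by
          rintro rfl
          rw [mul_zero] at hmm
          exact hm0 hmm
        by_cases hm'1 : m' = 1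
        · -- `x` has prime power order `q ^ e`
          rw [hm'1, mul_one] at hmm
          by_cases hr : ∃ r : ℕ, r.Prime ∧ r ∣ Nat.card G ∧ r ≠ p ∧ r ≠ q
          · obtain ⟨r, hrP, hrG, hrp, hrq⟩ := hr
            have hrx : ¬ r ∣ orderOf x := by
              rw [hxm, hmm]
              intro hdvd
              exact hrq ((Nat.prime_dvd_prime_iff_eq hrP hqp).mp (hrP.dvd_of_dvd_pow hdvd))
            obtain ⟨N, hN, hNtop, hxN⟩ := kazarin_lemmaK x p a hp hxa r hrP hrp hrG hrx
            haveI := hN
            have hlt : Nat.card N < n := by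
              rw [← hn]
              refine lt_of_le_of_ne (Subgroup.card_le_card_group N) ?_
              intro h
              exact hNtop (N.eq_top_of_card_eq h)
            obtain ⟨b, hb⟩ := kaz_index_normal hp N ⟨x, hxN⟩ a hxa
            have hmem := ih (Nat.card N) hlt N rfl ⟨x, hxN⟩ b hb
            exact kazRad_normal_le N ⟨⟨x, hxN⟩, hmem, rfl⟩
          · have hall : ∀ r : ℕ, r.Prime → r ∣ Nat.card G → r = p ∨ r = q := by
              intro r hrP hrG
              by_contra hcon
              push Not at hcon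
              exact hr ⟨r, hrP, hrG, hcon.1, hcon.2⟩
            obtain ⟨α, β, hαβ⟩ := kaz_card_pq (Nat.card_pos (α := G)).ne' hp hall
            haveI : Group.IsSolvable G := Cfsg.Agent.Lib.Helper4.burnside p q α β hp hqp hαβ
            exact kaz_le_rad (⊤ : Subgroup G) inferInstance inferInstance (Subgroup.mem_top x)
        · -- the order of `x` is not a prime power: split `x` into two powers
          have he : e ≠ 0 := by
            rintro rfl
            apply hm'
            rw [pow_zero, one_mul] at hmm
            rw [← hmm]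
            exact Nat.minFac_dvd m
          have hqe1 : 1 < q ^ e := Nat.one_lt_pow he hqp.one_lt
          have hm'2 : 1 < m' := by omega
          have hcop : Nat.Coprime m' (q ^ e) :=
            (Nat.Coprime.pow_left e ((Nat.Prime.coprime_iff_not_dvd hqp).mpr hm')).symm
          -- `y = x ^ m'` has order `q ^ e < m`
          have hoy : orderOf (x ^ m') = q ^ e := by
            rw [orderOf_pow_of_dvd hm'0 (by rw [hxm, hmm]; exact Dvd.intro_left _ rfl), hxm, hmm]
            exact Nat.mul_div_cancel _ (Nat.pos_of_ne_zero hm'0)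
          have hoz : orderOf (x ^ (q ^ e)) = m' := by
            rw [orderOf_pow_of_dvd (pow_ne_zero e hqp.ne_zero)
              (by rw [hxm, hmm]; exact Dvd.intro _ rfl), hxm, hmm]
            exact Nat.mul_div_cancel_left _ (pow_pos hqp.pos e)
          have hylt : q ^ e < m := by
            rw [hmm]
            calc q ^ e = q ^ e * 1 := (mul_one _).symm
              _ < q ^ e * m' := Nat.mul_lt_mul_of_pos_left hm'2 (pow_pos hqp.pos e)
          have hzlt : m' < m := by
            rw [hmm]
            calc m' = 1 * m' := (one_mul _).symm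
              _ < q ^ e * m' := Nat.mul_lt_mul_of_pos_right hqe1 (Nat.pos_of_ne_zero hm'0)
          obtain ⟨b1, hb1⟩ := kaz_index_pow hp x a hxa m'
          obtain ⟨b2, hb2⟩ := kaz_index_pow hp x a hxa (q ^ e)
          have hy := ihm (q ^ e) hylt (x ^ m') hoy b1 hb1
          have hz := ihm m' hzlt (x ^ (q ^ e)) hoz b2 hb2
          obtain ⟨u, v, huv⟩ := (Nat.isCoprime_iff_coprime.mpr hcop)
          have hx : x = (x ^ m') ^ u * (x ^ (q ^ e)) ^ v := by
            rw [← zpow_natCast x m', ← zpow_natCast x (q ^ e), ← zpow_mul, ← zpow_mul, ← zpow_add,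
              mul_comm (m' : ℤ) u, mul_comm ((q ^ e : ℕ) : ℤ) v, huv, zpow_one]
          rw [hx]
          exact mul_mem (zpow_mem hy u) (zpow_mem hz v)
    intro x a hxa
    exact inner (orderOf x) x rfl a hxa

/-- **Kazarin's theorem**: if the conjugacy class of `x` has prime power size then the normal
closure of `x` is solvable. -/
theorem kazarin {G : Type u} [Group G] [Finite G] (x : G) {p : ℕ} (hp : p.Prime) (k : ℕ)
    (hx : (ConjClasses.mk x).carrier.ncard = p ^ k) :
    Group.IsSolvable ↥(Subgroup.normalClosure ({x} : Set G)) := by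
  have hx' : (Subgroup.centralizer ({x} : Set G)).index = p ^ k := by
    rw [← kazK_ncard_carrier, hx]
  have hmem := kazarin_rad hp _ G rfl x k hx'
  obtain ⟨hn, hs⟩ := kazRad_spec (G := G)
  haveI := hn
  haveI := hs
  have hle : Subgroup.normalClosure ({x} : Set G) ≤ kazRad G :=
    Subgroup.normalClosure_le_normal (by simpa using hmem)
  exact Group.isSolvable_of_isSolvable_injective (Subgroup.inclusion_injective hle)

end Cfsg.Agent.Lib.Helper72
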