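import Mathlib
import Cfsg.Agent.Lib.Helper4.FCDefs

/-! Project FC (helper4, S4146), piece LFKZ (helper72). -/

set_option autoImplicit false

namespace Cfsg.Agent.Lib.Helper4.FC

universe u

theorem fc_lfkz : LF1Stmt.{u} → LF2Stmt.{u} → LFK2Stmt.{u} → LFK3Stmt.{u} → L3Stmt.{u} →
    LFKZStmt.{u} := by
  intro hLF1 _hLF2 hLFK2 hLFK3 hL3 G _ _ n m A H z hctx hzH hzc hzK k hkK
  by_contra hcon
  push Not at hcon
  obtain ⟨h, hhH, hkh⟩ := hcon
  have hctx' := hctx
  obtain ⟨hfour, hAn, hAab, hcop, hdisj, hsup, hAcs, hrel⟩ := hctx'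
  obtain ⟨h1n, h1m, hnm, hall, -, -, -⟩ := hfour
  have hkH : k ∈ H := hkK.1
  have hkC : k ∈ Subgroup.centralizer (A : Set G) := hkK.2
  -- choose y
  have hzC : z ∉ Subgroup.centralizer (A : Set G) := fun hc => hzK ⟨hzH, hc⟩
  rw [Subgroup.mem_centralizer_iff] at hzC
  push Not at hzC
  obtain ⟨y, hyA, hyz⟩ := hzC
  have hcsy : cs y = m := by
    rcases hAcs y hyA with h1 | h1
    · exfalso
      have htop : Cen y = ⊤ := Subgroup.index_eq_one.mp h1
      have hzy : z ∈ Cen y := by rw [htop]; trivial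
      rw [Subgroup.mem_centralizer_iff] at hzy
      exact hyz (hzy y rfl)
    · exact h1
  -- cs k = m
  obtain ⟨hk1, hk2, hk3⟩ := hLF1 G n m A H k hctx hkH
  have hkA : (Cen k).relIndex A = 1 := by
    rw [Subgroup.relIndex_eq_one]
    intro a ha
    rw [Subgroup.mem_centralizer_iff]
    intro x hx
    rw [Set.mem_singleton_iff] at hx
    subst hx
    exact ((Subgroup.mem_centralizer_iff.mp hkC) a ha).symm
  have hkHH : (Cen k).relIndex H = m := by
    rcases hk2 with h1 | h1
    · exfalso
      rw [Subgroup.relIndex_eq_one] at h1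
      have := h1 hhH
      rw [Subgroup.mem_centralizer_iff] at this
      exact hkh (this k rfl)
    · exact h1
  have hcsk : cs k = m := by rw [hk3, hkA, hkHH, one_mul]
  -- cs (y * k) = m
  have hKk : (Cen k).relIndex (CHA A H) = 1 := by
    rw [Subgroup.relIndex_eq_one]
    intro k2 hk2K
    rw [Subgroup.mem_centralizer_iff]
    intro x hx
    rw [Set.mem_singleton_iff] at hx
    subst hx
    exact hLFK3 G n m A H x k2 hctx hkK hk2K
  have hcsyk : cs (y * k) = m := by
    rw [hLFK2 G n m A H y k hctx hyA hcsy hkK, hKk, mul_one]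
  -- L3
  have hcomm : Commute y k := (Subgroup.mem_centralizer_iff.mp hkC) y hyA
  have hcompl : Subgroup.IsComplement' H A := by
    apply Subgroup.isComplement'_of_disjoint_and_mul_eq_univ
    · rw [disjoint_iff, inf_comm]; exact hdisj
    · rw [← Subgroup.mul_normal H A, sup_comm, hsup]; rfl
  have hcardH : A.index = Nat.card H := hcompl.index_eq_card
  have hord : (orderOf y).Coprime (orderOf k) := by
    have h1 : orderOf y ∣ Nat.card A := Subgroup.orderOf_dvd_natCard A hyA
    have h2 : orderOf k ∣ A.index := by rw [hcardH]; exact Subgroup.orderOf_dvd_natCard H hkH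
    exact Nat.Coprime.of_dvd h1 h2 hcop
  have hL := hL3 G y k hcomm hord
  -- index
  have hle : Cen y ⊓ Cen k ≤ Cen k := inf_le_right
  have hidx : (Cen y ⊓ Cen k).index = m := by rw [← hL]; exact hcsyk
  have hri := Subgroup.relIndex_mul_index hle
  rw [hidx] at hri
  have hcsk' : (Cen k).index = m := hcsk
  rw [hcsk'] at hri
  have hri1 : (Cen y ⊓ Cen k).relIndex (Cen k) = 1 := by
    have hm : 0 < m := by omega
    exact Nat.eq_of_mul_eq_mul_right hm (by rw [hri, one_mul])
  rw [Subgroup.relIndex_eq_one] at hri1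
  have hzk : z ∈ Cen k := by
    rw [Subgroup.mem_centralizer_iff]
    intro x hx
    rw [Set.mem_singleton_iff] at hx
    subst hx
    exact (hzc x hkH).symm
  have hzy : z ∈ Cen y := (hri1 hzk).1
  rw [Subgroup.mem_centralizer_iff] at hzy
  exact hyz (hzy y rfl)

end Cfsg.Agent.Lib.Helper4.FC
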