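import Mathlib
import Cfsg.Agent.Lib.Helper72.Basic

set_option autoImplicit false
set_option linter.style.haveILetI false

namespace Cfsg.Agent.Lib.Helper72

open Pointwise

variable {G : Type*} [Group G]

/-- `x` is a `π`-element: every prime dividing its order lies in `π`. -/
def PiElt (π : Set ℕ) (x : G) : Prop := ∀ p : ℕ, p.Prime → p ∣ orderOf x → p ∈ π

/-- `π'`-homogeneity, as written in the statements. -/
def PiHom (π : Set ℕ) (G : Type*) [Group G] : Prop :=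
  ∀ H : Subgroup G, H ≠ ⊥ → (∀ p : ℕ, p.Prime → p ∣ Nat.card ↥H → p ∉ π) →
    ∀ p : ℕ, p.Prime → p ∣ (Subgroup.centralizer (H : Set G)).relIndex
      (Subgroup.normalizer (H : Set G)) → p ∉ π

theorem PiElt.conj {π : Set ℕ} {x : G} (h : PiElt π x) (g : G) : PiElt π (g * x * g⁻¹) := by
  intro p hp hd
  rw [orderOf_conj_eq] at hd
  exact h p hp hd

theorem PiElt.pow {π : Set ℕ} {x : G} (h : PiElt π x) (n : ℕ) : PiElt π (x ^ n) :=
  fun p hp hd => h p hp (hd.trans (orderOf_pow_dvd n))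

theorem PiElt.map {π : Set ℕ} {H : Type*} [Group H] {x : G} (h : PiElt π x) (f : G →* H) :
    PiElt π (f x) :=
  fun p hp hd => h p hp (hd.trans (orderOf_map_dvd f x))

theorem piElt_one (π : Set ℕ) : PiElt π (1 : G) := by
  intro p hp hd
  rw [orderOf_one] at hd
  exact absurd (Nat.dvd_one.1 hd) hp.ne_one

theorem piElt_of_pow_prime_pow {π : Set ℕ} {p : ℕ} (hp : p ∈ π) (hpp : p.Prime) {x : G} {a : ℕ}
    (hx : x ^ p ^ a = 1) : PiElt π x := by
  intro q hq hd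
  have h1 : q ∣ p ^ a := hd.trans (orderOf_dvd_of_pow_eq_one hx)
  have h2 := (Nat.prime_dvd_prime_iff_eq hq hpp).1 (hq.dvd_of_dvd_pow h1)
  subst h2; exact hp

theorem piElt_coe {π : Set ℕ} {M : Subgroup G} (x : M) : PiElt π (x : G) ↔ PiElt π x := by
  unfold PiElt
  rw [Subgroup.orderOf_coe]

theorem mem_of_pow_mem_of_coprime' (N : Subgroup G) (g : G) {a b : ℕ}
    (hab : Nat.Coprime a b) (ha : g ^ a ∈ N) (hb : g ^ b ∈ N) : g ∈ N := by
  obtain ⟨u, v, huv⟩ := Nat.isCoprime_iff_coprime.2 hab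
  have : g = (g ^ a) ^ u * (g ^ b) ^ v := by
    rw [← zpow_natCast, ← zpow_natCast, ← zpow_mul, ← zpow_mul, ← zpow_add, mul_comm _ u,
      mul_comm _ v, huv, zpow_one]
  rw [this]
  exact N.mul_mem (N.zpow_mem ha u) (N.zpow_mem hb v)

theorem exists_mul_of_mem_normal_sup' (N K : Subgroup G) [N.Normal] {g : G} (hg : g ∈ N ⊔ K) :
    ∃ n ∈ N, ∃ k ∈ K, g = n * k := by
  have h : (g : G) ∈ ((N : Set G) * (K : Set G)) := by
    rw [← Subgroup.normal_mul]; exact hg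
  obtain ⟨n, hn, k, hk, rfl⟩ := Set.mem_mul.1 h
  exact ⟨n, hn, k, hk, rfl⟩

/-- A `p`-element is conjugate into any subgroup of index prime to `p`. -/
theorem exists_conj_mem_of_not_dvd_index [Finite G] {p : ℕ} [Fact p.Prime] (B : Subgroup G)
    (hB : ¬ p ∣ B.index) (x : G) (a : ℕ) (hx : x ^ p ^ a = 1) : ∃ g : G, g⁻¹ * x * g ∈ B := by
  have hP : IsPGroup p (Subgroup.zpowers x) := by
    rw [IsPGroup]
    rintro ⟨y, hy⟩
    obtain ⟨k, rfl⟩ := Subgroup.mem_zpowers_iff.1 hy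
    refine ⟨a, ?_⟩
    apply Subtype.ext
    simp only [Subgroup.coe_pow, Subgroup.coe_one]
    rw [← zpow_natCast, ← zpow_mul, mul_comm, zpow_mul, zpow_natCast, hx, one_zpow]
  obtain ⟨c, hc⟩ := hP.nonempty_fixed_point_of_prime_not_dvd_card (G ⧸ B)
    (by rwa [← Subgroup.index_eq_card])
  induction c using QuotientGroup.induction_on with
  | H g =>
    refine ⟨g, ?_⟩
    have h1 := hc ⟨x, Subgroup.mem_zpowers x⟩
    have h2 : ((x * g : G) : G ⧸ B) = (g : G ⧸ B) := h1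
    rw [QuotientGroup.eq] at h2
    have h3 : g⁻¹ * x * g = ((x * g)⁻¹ * g)⁻¹ := by group
    rw [h3]; exact B.inv_mem h2

theorem index_eq_relIndex_of_sup_eq_top [Finite G] (B K : Subgroup G) [K.Normal]
    (h : B ⊔ K = ⊤) : B.index = B.relIndex K := by
  have h1 : (B ⊓ K).relIndex B * B.index = (B ⊓ K).index :=
    Subgroup.relIndex_mul_index inf_le_left
  have h2 : (B ⊓ K).relIndex K * K.index = (B ⊓ K).index :=
    Subgroup.relIndex_mul_index inf_le_right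
  have h3 : (B ⊓ K).relIndex B = K.index := by
    rw [Subgroup.inf_relIndex_left, ← Subgroup.relIndex_sup_right, h, Subgroup.relIndex_top_right]
  have h4 : (B ⊓ K).relIndex K = B.relIndex K := Subgroup.inf_relIndex_right _ _
  rw [h3] at h1
  rw [h4] at h2
  have h5 : K.index ≠ 0 := Subgroup.index_ne_zero_of_finite
  have h6 : K.index * B.index = K.index * B.relIndex K := by rw [h1, mul_comm, h2]
  exact Nat.eq_of_mul_eq_mul_left (Nat.pos_of_ne_zero h5) h6

/-- In a `π'`-homogeneous group a `p`-element (`p ∈ π`) normalizing a `π'`-subgroup centralizes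
it. -/
theorem mem_centralizer_of_piHom [Finite G] {π : Set ℕ} (hhom : PiHom π G) (H : Subgroup G)
    (hH : ∀ p : ℕ, p.Prime → p ∣ Nat.card ↥H → p ∉ π) {p : ℕ} (hp : p.Prime) (hpπ : p ∈ π)
    {y : G} (hy : y ∈ Subgroup.normalizer (H : Set G)) {c : ℕ} (hyc : y ^ p ^ c = 1) :
    y ∈ Subgroup.centralizer (H : Set G) := by
  by_cases hbot : H = ⊥
  · subst hbot
    rw [Subgroup.mem_centralizer_iff]
    intro h hh
    have : h = 1 := by simpa using hh
    subst this; simp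
  have hnd : ¬ p ∣ (Subgroup.centralizer (H : Set G)).relIndex (Subgroup.normalizer (H : Set G)) :=
    fun hd => hhom H hbot hH p hp hd hpπ
  haveI : ((Subgroup.centralizer (H : Set G)).subgroupOf
      (Subgroup.normalizer (H : Set G))).Normal := by
    rw [← Subgroup.normalizerMonoidHom_ker]; infer_instance
  have h1 : (⟨y, hy⟩ : Subgroup.normalizer (H : Set G)) ^
      ((Subgroup.centralizer (H : Set G)).subgroupOf (Subgroup.normalizer (H : Set G))).index ∈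
      (Subgroup.centralizer (H : Set G)).subgroupOf (Subgroup.normalizer (H : Set G)) :=
    Subgroup.pow_index_mem _ _
  rw [Subgroup.mem_subgroupOf] at h1
  have h2 : y ^ (Subgroup.centralizer (H : Set G)).relIndex (Subgroup.normalizer (H : Set G)) ∈
      Subgroup.centralizer (H : Set G) := h1
  have h3 : y ^ p ^ c ∈ Subgroup.centralizer (H : Set G) := by rw [hyc]; exact Subgroup.one_mem _
  exact mem_of_pow_mem_of_coprime' _ y
    (Nat.Coprime.pow_left c ((Nat.Prime.coprime_iff_not_dvd hp).2 hnd)) h3 h2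

theorem normal_of_piElt_char {π : Set ℕ} (K L : Subgroup G) [K.Normal]
    (hL : ∀ x, x ∈ L ↔ x ∈ K ∧ PiElt π x) : L.Normal := by
  constructor
  intro n hn g
  rw [hL] at hn ⊢
  exact ⟨Subgroup.Normal.conj_mem inferInstance n hn.1 g, hn.2.conj g⟩

theorem not_dvd_relIndex_of_mem [Finite G] {π : Set ℕ} (K L : Subgroup G)
    (hL : ∀ x, x ∈ L ↔ x ∈ K ∧ PiElt π x) {r : ℕ} (hr : r.Prime) (hrπ : r ∈ π) :
    ¬ r ∣ L.relIndex K := by
  haveI : Fact r.Prime := ⟨hr⟩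
  obtain P : Sylow r K := default
  have hP : (P : Subgroup K) ≤ L.subgroupOf K := by
    intro x hx
    rw [Subgroup.mem_subgroupOf, hL]
    refine ⟨x.2, ?_⟩
    obtain ⟨a, ha⟩ := (P.isPGroup' : IsPGroup r P) ⟨x, hx⟩
    have h1 : (x : G) ^ r ^ a = 1 := by
      have h2 := congrArg (fun z : P => ((z : K) : G)) ha
      simpa using h2
    exact piElt_of_pow_prime_pow hrπ hr h1
  intro hd
  exact P.not_dvd_index (hd.trans (Subgroup.index_dvd_of_le hP))

theorem comm_mem_iff_mk_comm (L : Subgroup G) [L.Normal] (x u : G) :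
    x * u * x⁻¹ * u⁻¹ ∈ L ↔ (x : G ⧸ L) * (u : G ⧸ L) = (u : G ⧸ L) * (x : G ⧸ L) := by
  rw [← QuotientGroup.eq_one_iff]
  simp only [QuotientGroup.mk_mul, QuotientGroup.mk_inv]
  constructor
  · intro h
    have h1 : (x : G ⧸ L) * u = ((x : G ⧸ L) * u * (x : G ⧸ L)⁻¹ * (u : G ⧸ L)⁻¹) * (u * x) := by
      group
    rw [h1, h, one_mul]
  · intro h
    rw [h]; group

/-- For a `p`-element `x` (`p ∈ π`) and a prime `q ∉ π`, some Sylow `q`-subgroup of `K` is
centralized by `x` modulo `L`. -/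
theorem exists_sylow_comm_mem [Finite G] {π : Set ℕ} (hhom : PiHom π G) (K L : Subgroup G)
    [K.Normal] [L.Normal] (hL : ∀ x, x ∈ L ↔ x ∈ K ∧ PiElt π x) {p : ℕ} (hp : p.Prime)
    (hpπ : p ∈ π) {q : ℕ} (hq : q.Prime) (hqπ : q ∉ π) {x : G} {a : ℕ} (hx : x ^ p ^ a = 1) :
    ∃ U : Subgroup G, U ≤ K ∧ Nat.card U = q ^ (Nat.card K).factorization q ∧
      ∀ u ∈ U, x * u * x⁻¹ * u⁻¹ ∈ L := by
  haveI : Fact p.Prime := ⟨hp⟩
  haveI : Fact q.Prime := ⟨hq⟩
  obtain Q₀ : Sylow q K := default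
  obtain ⟨Q, hQ⟩ : ∃ Q : Subgroup G, Q = (Q₀ : Subgroup K).map K.subtype := ⟨_, rfl⟩
  have hQK : Q ≤ K := by rw [hQ]; exact Subgroup.map_subtype_le _
  have hQcard : Nat.card Q = q ^ (Nat.card K).factorization q := by
    rw [hQ, Subgroup.card_map_of_injective K.subtype_injective]; exact Q₀.card_eq_multiplicity
  have hQπ : ∀ r : ℕ, r.Prime → r ∣ Nat.card Q → r ∉ π := by
    intro r hr hd
    rw [hQcard] at hd
    have h1 := (Nat.prime_dvd_prime_iff_eq hr hq).1 (hr.dvd_of_dvd_pow hd)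
    subst h1; exact hqπ
  have hFr : Subgroup.normalizer (Q : Set G) ⊔ K = ⊤ := by
    rw [hQ]; exact Sylow.normalizer_sup_eq_top Q₀
  obtain ⟨B, hB⟩ : ∃ B : Subgroup G, B = L ⊔ Subgroup.normalizer (Q : Set G) := ⟨_, rfl⟩
  have hLB : L ≤ B := by rw [hB]; exact le_sup_left
  have hBK : B ⊔ K = ⊤ := by
    apply top_le_iff.1; rw [← hFr, hB]; exact sup_le_sup_right le_sup_right K
  have hidx : ¬ p ∣ B.index := by
    rw [index_eq_relIndex_of_sup_eq_top B K hBK]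
    intro hd
    exact not_dvd_relIndex_of_mem K L hL hp hpπ (hd.trans (Subgroup.relIndex_dvd_of_le_left K hLB))
  obtain ⟨g, hg⟩ := exists_conj_mem_of_not_dvd_index B hidx x a hx
  obtain ⟨b, hb⟩ : ∃ b : G, b = g⁻¹ * x * g := ⟨_, rfl⟩
  rw [← hb] at hg
  have hba : b ^ p ^ a = 1 := by
    rw [hb]
    have h1 : g⁻¹ * x * g = g⁻¹ * x * g⁻¹⁻¹ := by group
    rw [h1, conj_pow, hx]; group
  rw [hB] at hg
  obtain ⟨l, hl, n, hn, hbln⟩ := exists_mul_of_mem_normal_sup' L _ hg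
  have hnL : n ^ p ^ a ∈ L := by
    rw [← QuotientGroup.eq_one_iff, QuotientGroup.mk_pow]
    have h1 : (n : G ⧸ L) = (b : G ⧸ L) := by
      rw [hbln, QuotientGroup.mk_mul, (QuotientGroup.eq_one_iff l).2 hl, one_mul]
    rw [h1, ← QuotientGroup.mk_pow, hba]; rfl
  obtain ⟨c, m, hpm, hord⟩ := Nat.exists_eq_pow_mul_and_not_dvd (orderOf_pos n).ne' p hp.ne_one
  have hy : (n ^ m) ^ p ^ c = 1 := by
    rw [← pow_mul, mul_comm, ← hord]; exact pow_orderOf_eq_one n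
  have hyC : n ^ m ∈ Subgroup.centralizer (Q : Set G) :=
    mem_centralizer_of_piHom hhom Q hQπ hp hpπ (Subgroup.pow_mem _ hn m) hy
  obtain ⟨D, hD⟩ : ∃ D : Subgroup G, D = L ⊔ Subgroup.centralizer (Q : Set G) := ⟨_, rfl⟩
  have hnD : n ∈ D := by
    apply mem_of_pow_mem_of_coprime' D n (a := p ^ a) (b := m)
    · exact Nat.Coprime.pow_left a ((Nat.Prime.coprime_iff_not_dvd hp).2 hpm)
    · rw [hD]; exact Subgroup.mem_sup_left hnL
    · rw [hD]; exact Subgroup.mem_sup_right hyC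
  have hbD : b ∈ D := by
    rw [hbln]; exact D.mul_mem (by rw [hD]; exact Subgroup.mem_sup_left hl) hnD
  rw [hD] at hbD
  obtain ⟨l₂, hl₂, c₂, hc₂, hb2⟩ := exists_mul_of_mem_normal_sup' L _ hbD
  have hcomm : ∀ u ∈ Q, b * u * b⁻¹ * u⁻¹ ∈ L := by
    intro u hu
    have h1 : u * c₂ = c₂ * u := Subgroup.mem_centralizer_iff.1 hc₂ u hu
    have h2 : b * u * b⁻¹ * u⁻¹ = l₂ * (u * l₂⁻¹ * u⁻¹) := by
      rw [hb2]
      have h3 : l₂ * c₂ * u * (l₂ * c₂)⁻¹ * u⁻¹ = l₂ * (c₂ * u) * c₂⁻¹ * l₂⁻¹ * u⁻¹ := by group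
      rw [h3, ← h1]; group
    rw [h2]
    exact L.mul_mem hl₂ (Subgroup.Normal.conj_mem inferInstance _ (L.inv_mem hl₂) u)
  refine ⟨Q.map (MulAut.conj g).toMonoidHom, ?_, ?_, ?_⟩
  · rintro _ ⟨u, hu, rfl⟩
    exact Subgroup.Normal.conj_mem inferInstance u (hQK hu) g
  · rw [Subgroup.card_map_of_injective (MulAut.conj g).injective]; exact hQcard
  · rintro _ ⟨u, hu, rfl⟩
    have h1 := hcomm u hu
    have h2 : x * (MulAut.conj g).toMonoidHom u * x⁻¹ * ((MulAut.conj g).toMonoidHom u)⁻¹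
        = g * (b * u * b⁻¹ * u⁻¹) * g⁻¹ := by
      rw [hb]; simp only [MulEquiv.coe_toMonoidHom, MulAut.conj_apply]; group
    rw [h2]
    exact Subgroup.Normal.conj_mem inferInstance _ h1 g

theorem comm_mem_of_prime_pow [Finite G] {π : Set ℕ} (hhom : PiHom π G) (K L : Subgroup G)
    [K.Normal] [L.Normal] (hLK : L ≤ K) (hL : ∀ x, x ∈ L ↔ x ∈ K ∧ PiElt π x) {p : ℕ}
    (hp : p.Prime) (hpπ : p ∈ π) {x : G} {a : ℕ} (hx : x ^ p ^ a = 1) :
    ∀ k ∈ K, x * k * x⁻¹ * k⁻¹ ∈ L := by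
  obtain ⟨A, hA⟩ : ∃ A : Subgroup G, A = K ⊓ Subgroup.comap (QuotientGroup.mk' L)
      (Subgroup.centralizer {(x : G ⧸ L)}) := ⟨_, rfl⟩
  have hAK : A ≤ K := by rw [hA]; exact inf_le_left
  have hmemA : ∀ u, u ∈ A ↔ u ∈ K ∧ x * u * x⁻¹ * u⁻¹ ∈ L := by
    intro u
    rw [hA, Subgroup.mem_inf, Subgroup.mem_comap, QuotientGroup.mk'_apply,
      mem_centralizer_singleton_iff', comm_mem_iff_mk_comm]
  have hLA : L ≤ A := by
    intro l hl
    rw [hmemA]
    refine ⟨hLK hl, ?_⟩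
    have h1 : x * l * x⁻¹ * l⁻¹ = (x * l * x⁻¹) * l⁻¹ := by group
    rw [h1]
    exact L.mul_mem (Subgroup.Normal.conj_mem inferInstance l hl x) (L.inv_mem hl)
  have hrel : A.relIndex K = 1 := by
    rw [Nat.eq_one_iff_not_exists_prime_dvd]
    intro r hr hd
    by_cases hrπ : r ∈ π
    · exact not_dvd_relIndex_of_mem K L hL hr hrπ
        (hd.trans (Subgroup.relIndex_dvd_of_le_left K hLA))
    · obtain ⟨U, hUK, hUcard, hU⟩ := exists_sylow_comm_mem hhom K L hL hp hpπ hr hrπ hx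
      have hUA : U ≤ A := fun u hu => (hmemA u).2 ⟨hUK hu, hU u hu⟩
      have h1 : r ^ (Nat.card K).factorization r ∣ Nat.card A := by
        rw [← hUcard]; exact Subgroup.card_dvd_of_le hUA
      have h2 : Nat.card A * A.relIndex K = Nat.card K := by
        rw [← Nat.card_congr (Subgroup.subgroupOfEquivOfLe hAK).toEquiv]
        exact Subgroup.card_mul_index _
      have h3 : r ^ ((Nat.card K).factorization r + 1) ∣ Nat.card K := by
        have h4 := Nat.mul_dvd_mul h1 hd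
        rw [h2] at h4
        rw [pow_succ]; exact h4
      exact Nat.pow_succ_factorization_not_dvd Nat.card_pos.ne' hr h3
  intro k hk
  exact ((hmemA k).1 (Subgroup.relIndex_eq_one.1 hrel hk)).2

theorem comm_mem_of_piElt [Finite G] {π : Set ℕ} (hhom : PiHom π G) (K L : Subgroup G)
    [K.Normal] [L.Normal] (hLK : L ≤ K) (hL : ∀ x, x ∈ L ↔ x ∈ K ∧ PiElt π x) {x : G}
    (hx : PiElt π x) : ∀ k ∈ K, x * k * x⁻¹ * k⁻¹ ∈ L := by
  intro k hk
  rw [comm_mem_iff_mk_comm]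
  have hc : Commute (k : G ⧸ L) (x : G ⧸ L) := by
    apply commute_of_primary
    intro p hp hpd
    have hpπ : p ∈ π := hx p hp (hpd.trans (orderOf_map_dvd (QuotientGroup.mk' L) x))
    obtain ⟨n, hn⟩ : ∃ n : ℕ, n = orderOf (x : G ⧸ L) := ⟨_, rfl⟩
    rw [← hn]
    have hpow : ((x : G ⧸ L) ^ (n / p ^ n.factorization p)) ^ p ^ n.factorization p = 1 := by
      rw [← pow_mul, Nat.div_mul_cancel (Nat.ordProj_dvd n p), hn]; exact pow_orderOf_eq_one _
    obtain ⟨x', hx', a, ha⟩ := exists_lift_pow_eq_one L hp _ _ hpow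
    rw [← hx']
    have h1 := comm_mem_of_prime_pow hhom K L hLK hL hp hpπ ha k hk
    rw [comm_mem_iff_mk_comm] at h1
    exact h1.symm
  exact hc.eq.symm

/-- A normal `π'`-subgroup `N` with `π`-quotient, centralized by all `π`-elements: the
`π`-elements form a subgroup (Schur–Zassenhaus). -/
theorem exists_piElt_subgroup_of_central {Γ : Type*} [Group Γ] [Finite Γ] (π : Set ℕ)
    (N : Subgroup Γ) [N.Normal]
    (h1 : ∀ x ∈ N, PiElt π x → x = 1)
    (h2 : ∀ x : Γ, ∃ m : ℕ, m ≠ 0 ∧ (∀ p : ℕ, p.Prime → p ∣ m → p ∈ π) ∧ x ^ m ∈ N)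
    (h3 : ∀ x : Γ, PiElt π x → ∀ n ∈ N, x * n = n * x) :
    ∃ T : Subgroup Γ, ∀ x, x ∈ T ↔ PiElt π x := by
  have hidx : ∀ p : ℕ, p.Prime → p ∣ N.index → p ∈ π := by
    intro p hp hd
    haveI : Fact p.Prime := ⟨hp⟩
    rw [Subgroup.index_eq_card] at hd
    obtain ⟨y, hy⟩ := exists_prime_orderOf_dvd_card' (G := Γ ⧸ N) p hd
    induction y using QuotientGroup.induction_on with
    | H y =>
      obtain ⟨m, hm0, hmπ, hm⟩ := h2 y
      have h4 : ((y : Γ ⧸ N)) ^ m = 1 := by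
        rw [← QuotientGroup.mk_pow]; exact (QuotientGroup.eq_one_iff _).2 hm
      have h5 : p ∣ m := by rw [← hy]; exact orderOf_dvd_of_pow_eq_one h4
      exact hmπ p hp h5
  have hcard : ∀ p : ℕ, p.Prime → p ∣ Nat.card N → p ∉ π := by
    intro p hp hd hpπ
    haveI : Fact p.Prime := ⟨hp⟩
    obtain ⟨y, hy⟩ := exists_prime_orderOf_dvd_card' (G := N) p hd
    have h4 : PiElt π (y : Γ) := by
      intro q hq hqd
      rw [Subgroup.orderOf_coe, hy] at hqd
      have h5 := (Nat.prime_dvd_prime_iff_eq hq hp).1 hqd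
      subst h5; exact hpπ
    have h5 := h1 y y.2 h4
    have h6 : y = 1 := Subtype.ext h5
    rw [h6, orderOf_one] at hy
    exact hp.ne_one hy.symm
  have hcop : Nat.Coprime (Nat.card N) N.index :=
    Nat.coprime_of_dvd fun p hp hd hd' => hcard p hp hd (hidx p hp hd')
  obtain ⟨T, hT⟩ := Subgroup.exists_right_complement'_of_coprime hcop
  have hTcard : N.index = Nat.card T := hT.symm.index_eq_card
  have hTπ : ∀ t ∈ T, PiElt π t := by
    intro t ht p hp hd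
    apply hidx p hp
    rw [hTcard]
    have h4 : orderOf (⟨t, ht⟩ : T) ∣ Nat.card T := orderOf_dvd_natCard _
    rw [← Subgroup.orderOf_coe] at h4
    exact hd.trans h4
  refine ⟨T, fun x => ⟨hTπ x, fun hx => ?_⟩⟩
  obtain ⟨⟨n, t⟩, hnt, -⟩ := hT.existsUnique x
  have hnt' : (n : Γ) * (t : Γ) = x := hnt
  have htπ : PiElt π (t : Γ) := hTπ t t.2
  have hcomm : (t : Γ) * (n : Γ) = (n : Γ) * (t : Γ) := h3 t htπ n n.2
  have hpow : x ^ orderOf (t : Γ) = (n : Γ) ^ orderOf (t : Γ) := by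
    rw [← hnt', (Commute.symm hcomm).mul_pow, pow_orderOf_eq_one, mul_one]
  have hn1 : (n : Γ) ^ orderOf (t : Γ) = 1 := by
    apply h1 _ (N.pow_mem n.2 _)
    rw [← hpow]; exact hx.pow _
  have hn2 : (n : Γ) ^ Nat.card N = 1 := by
    rw [← Subgroup.coe_pow, pow_card_eq_one', Subgroup.coe_one]
  have hcop2 : Nat.Coprime (orderOf (t : Γ)) (Nat.card N) := by
    apply Nat.Coprime.coprime_dvd_left _ hcop.symm
    rw [hTcard, Subgroup.orderOf_coe]; exact orderOf_dvd_natCard _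
  have hn : (n : Γ) = 1 := by
    have h4 : (n : Γ) ∈ (⊥ : Subgroup Γ) :=
      mem_of_pow_mem_of_coprime' ⊥ _ hcop2 (by rw [hn1]; exact Subgroup.one_mem _)
        (by rw [hn2]; exact Subgroup.one_mem _)
    simpa using h4
  rw [← hnt', hn, one_mul]; exact t.2

/-- Version of `exists_piElt_subgroup_of_central` modulo a normal `π`-subgroup `L`. -/
theorem exists_piElt_subgroup_of_central_mod {Γ : Type*} [Group Γ] [Finite Γ] (π : Set ℕ)
    (L N : Subgroup Γ) [L.Normal] [N.Normal]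
    (hL : ∀ x, x ∈ L ↔ x ∈ N ∧ PiElt π x)
    (h2 : ∀ x : Γ, ∃ m : ℕ, m ≠ 0 ∧ (∀ p : ℕ, p.Prime → p ∣ m → p ∈ π) ∧ x ^ m ∈ N)
    (h3 : ∀ x : Γ, PiElt π x → ∀ n ∈ N, x * n * x⁻¹ * n⁻¹ ∈ L) :
    ∃ T : Subgroup Γ, ∀ x, x ∈ T ↔ PiElt π x := by
  -- lifting π-elements
  have hlift : ∀ x : Γ, PiElt π (x : Γ ⧸ L) → PiElt π x := by
    intro x hx p hp hd
    obtain ⟨o, ho⟩ : ∃ o : ℕ, o = orderOf (x : Γ ⧸ L) := ⟨_, rfl⟩
    have h4 : x ^ o ∈ L := by
      rw [← QuotientGroup.eq_one_iff, QuotientGroup.mk_pow, ho]; exact pow_orderOf_eq_one _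
    have h5 : PiElt π (x ^ o) := ((hL _).1 h4).2
    have h6 : orderOf x ∣ o * orderOf (x ^ o) := by
      apply orderOf_dvd_of_pow_eq_one
      rw [pow_mul]; exact pow_orderOf_eq_one _
    rcases (Nat.Prime.dvd_mul hp).1 (hd.trans h6) with h7 | h7
    · exact hx p hp (ho ▸ h7)
    · exact h5 p hp h7
  haveI : (N.map (QuotientGroup.mk' L)).Normal :=
    Subgroup.Normal.map inferInstance _ (QuotientGroup.mk'_surjective L)
  obtain ⟨T, hT⟩ := exists_piElt_subgroup_of_central π (N.map (QuotientGroup.mk' L))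
    (by
      rintro _ ⟨n, hn, rfl⟩ hx
      have h4 : PiElt π n := hlift n hx
      exact (QuotientGroup.eq_one_iff n).2 ((hL n).2 ⟨hn, h4⟩))
    (by
      intro x
      induction x using QuotientGroup.induction_on with
      | H x =>
        obtain ⟨m, hm0, hmπ, hm⟩ := h2 x
        exact ⟨m, hm0, hmπ, ⟨x ^ m, hm, rfl⟩⟩)
    (by
      intro x hx
      induction x using QuotientGroup.induction_on with
      | H x =>
        rintro _ ⟨n, hn, rfl⟩
        have h4 := h3 x (hlift x hx) n hn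
        rw [comm_mem_iff_mk_comm] at h4
        exact h4)
  refine ⟨T.comap (QuotientGroup.mk' L), fun x => ?_⟩
  rw [Subgroup.mem_comap, hT]
  exact ⟨fun h => hlift x h, fun h => h.map (QuotientGroup.mk' L)⟩

/-- **Lemma R.** In a `π'`-homogeneous group, if `K ⊴ G` is `π`-closed and `K ≤ M` with
`M / K` a `π`-group, then the `π`-elements of `M` form a subgroup (the inclusion `K ≤ M` is not needed). -/
theorem exists_piElt_subgroup_of_piHom [Finite G] {π : Set ℕ} (hhom : PiHom π G)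
    (K M : Subgroup G) [K.Normal]
    (hK : ∃ L : Subgroup G, ∀ x, x ∈ L ↔ x ∈ K ∧ PiElt π x)
    (hMK : ∀ x ∈ M, ∃ m : ℕ, m ≠ 0 ∧ (∀ p : ℕ, p.Prime → p ∣ m → p ∈ π) ∧ x ^ m ∈ K) :
    ∃ T : Subgroup G, ∀ x, x ∈ T ↔ x ∈ M ∧ PiElt π x := by
  obtain ⟨L, hL⟩ := hK
  haveI : L.Normal := normal_of_piElt_char K L hL
  have hLK : L ≤ K := fun x hx => ((hL x).1 hx).1
  obtain ⟨T, hT⟩ := exists_piElt_subgroup_of_central_mod (Γ := M) π (L.subgroupOf M)
    (K.subgroupOf M)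
    (by
      intro x
      rw [Subgroup.mem_subgroupOf, Subgroup.mem_subgroupOf, hL, piElt_coe])
    (by
      intro x
      obtain ⟨m, hm0, hmπ, hm⟩ := hMK x x.2
      refine ⟨m, hm0, hmπ, ?_⟩
      rw [Subgroup.mem_subgroupOf]; simpa using hm)
    (by
      intro x hx n hn
      rw [Subgroup.mem_subgroupOf] at hn ⊢
      have h4 := comm_mem_of_piElt hhom K L hLK hL ((piElt_coe x).2 hx) n hn
      simpa using h4)
  refine ⟨T.map M.subtype, fun x => ?_⟩
  constructor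
  · rintro ⟨y, hy, rfl⟩
    exact ⟨y.2, (piElt_coe y).2 ((hT y).1 hy)⟩
  · rintro ⟨hxM, hx⟩
    exact ⟨⟨x, hxM⟩, (hT _).2 ((piElt_coe (⟨x, hxM⟩ : M)).1 hx), rfl⟩

end Cfsg.Agent.Lib.Helper72
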