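import Mathlib
import Cfsg.Agent.Lib.Helper72.Basic

set_option autoImplicit false

namespace Cfsg.Agent.Lib.Helper72

/-- If `x` is inverted by some element and is centralized by a Sylow `2`-subgroup, then `x` is an
involution or trivial. -/
theorem eq_inv_of_conj_inv_of_sylow_le_centralizer {G : Type*} [Group G] [Finite G]
    (S : Sylow 2 G) {x g : G} (hg : g * x * g⁻¹ = x⁻¹)
    (hS : ∀ s : G, s ∈ (S : Subgroup G) → s * x = x * s) : x = x⁻¹ := by
  have h2 : Fact (Nat.Prime 2) := ⟨Nat.prime_two⟩
  by_contra hxx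
  let N₂ : Subgroup G :=
    { carrier := {a | a * x * a⁻¹ = x ∨ a * x * a⁻¹ = x⁻¹}
      one_mem' := Or.inl (by simp)
      mul_mem' := by
        intro a b ha hb
        have e : a * b * x * (a * b)⁻¹ = a * (b * x * b⁻¹) * a⁻¹ := by group
        have hinv : a * x⁻¹ * a⁻¹ = (a * x * a⁻¹)⁻¹ := by group
        rcases ha with ha | ha <;> rcases hb with hb | hb
        · left; rw [e, hb, ha]
        · right; rw [e, hb, hinv, ha]
        · right; rw [e, hb, ha]
        · left; rw [e, hb, hinv, ha, inv_inv]
      inv_mem' := by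
        intro a ha
        rcases ha with ha | ha
        · left
          calc a⁻¹ * x * a⁻¹⁻¹ = a⁻¹ * (a * x * a⁻¹) * a := by rw [ha, inv_inv]
            _ = x := by group
        · right
          have hx' : x = a * x⁻¹ * a⁻¹ := by
            have : a * x⁻¹ * a⁻¹ = (a * x * a⁻¹)⁻¹ := by group
            rw [this, ha, inv_inv]
          calc a⁻¹ * x * a⁻¹⁻¹ = a⁻¹ * (a * x⁻¹ * a⁻¹) * a := by rw [← hx', inv_inv]
            _ = x⁻¹ := by group }
  have hCN : Subgroup.centralizer ({x} : Set G) ≤ N₂ := by
    intro a ha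
    left
    have := mem_centralizer_singleton_iff'.1 ha
    rw [← this]; group
  have hrel : (Subgroup.centralizer ({x} : Set G)).relIndex N₂ = 2 := by
    rw [Subgroup.relIndex_eq_two_iff]
    refine ⟨g, Or.inr hg, ?_⟩
    intro b hb
    have e : b * g * x * (b * g)⁻¹ = b * (g * x * g⁻¹) * b⁻¹ := by group
    have hinv : b * x⁻¹ * b⁻¹ = (b * x * b⁻¹)⁻¹ := by group
    have hcen : ∀ a : G, a ∈ Subgroup.centralizer ({x} : Set G) ↔ a * x * a⁻¹ = x := by
      intro a
      rw [mem_centralizer_singleton_iff']
      constructor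
      · intro h; rw [← h]; group
      · intro h
        calc x * a = (a * x * a⁻¹) * a := by rw [h]
          _ = a * x := by group
    rw [hcen, hcen, e, hg, hinv]
    rcases hb with hb | hb
    · right
      refine ⟨hb, ?_⟩
      rw [hb]; exact fun h => hxx h.symm
    · left
      refine ⟨by rw [hb, inv_inv], ?_⟩
      rw [hb]; exact fun h => hxx h.symm
  have hSC : (S : Subgroup G) ≤ Subgroup.centralizer ({x} : Set G) := by
    intro s hs
    rw [mem_centralizer_singleton_iff']
    exact (hS s hs).symm
  have hd1 : 2 ∣ (Subgroup.centralizer ({x} : Set G)).index := by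
    rw [← hrel]; exact Subgroup.relIndex_dvd_index_of_le hCN
  have hd2 : 2 ∣ (S : Subgroup G).index := hd1.trans (Subgroup.index_dvd_of_le hSC)
  exact S.not_dvd_index hd2

/-- An element of odd order equal to its inverse is trivial. -/
theorem eq_one_of_odd_of_eq_inv {G : Type*} [Group G] {x : G} (hodd : Odd (orderOf x))
    (h : x = x⁻¹) : x = 1 := by
  have h2 : x ^ 2 = 1 := by rw [pow_two]; nth_rewrite 2 [h]; exact mul_inv_cancel x
  have hd : orderOf x ∣ 2 := orderOf_dvd_of_pow_eq_one h2
  have h1 : orderOf x = 1 := by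
    rcases (Nat.dvd_prime Nat.prime_two).1 hd with h1 | h1
    · exact h1
    · rw [h1] at hodd; exact absurd hodd (by decide)
  exact orderOf_eq_one_iff.1 h1

end Cfsg.Agent.Lib.Helper72
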