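import Mathlib
import Cfsg.Agent.Lib.Helper72.SCDefs
import Cfsg.Agent.Lib.Helper72.Frattini
import Cfsg.Agent.Lib.Helper41.Cores

/-! Assembly for the S4394 project (helper72): the core case and the final statement from the
pieces of `SCDefs`. -/

set_option autoImplicit false

namespace Cfsg.Agent.Lib.Helper72.SC

open scoped commutatorElement

universe u u₂

theorem core_of_pieces (hstr : Str2Stmt.{u}) (hker : KerStmt.{u}) (hrng : RngStmt.{u})
    (hbas : BasStmt.{u}) (hoff : OffStmt.{u}) (hffx : FfxStmt.{u}) (henda : EndaStmt.{u})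
    (hendb : EndbStmt.{u}) (hfin : FinStmt.{u}) : CoreStmt.{u} := by
  intro G _ _ p _ Q hG hO hS
  by_contra hne
  have hQp : IsPGroup p ↥(Q : Subgroup G) := Q.isPGroup'
  have hRp : IsPGroup p ↥(Cfsg.pCore p G) := Cfsg.Agent.Lib.Helper41.pCore_isPGroup p
  have hSE := hstr G p (Q : Subgroup G) hQp hS
  obtain ⟨hZR, hfrZ, hfrne⟩ := hbas G p Q hG hO hSE hne
  have hSE' := hSE
  obtain ⟨hZQ, hZc, hcomm, hpow, h5⟩ := hSE
  have hker' := hker G p hG hO
  obtain ⟨hrs, hrc⟩ := hrng G p hG hO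
  have hVcomm : ∀ a b : VV p G, a * b = b * a := by
    intro a b
    induction a using QuotientGroup.induction_on with
    | H a =>
      induction b using QuotientGroup.induction_on with
      | H b =>
        rw [← QuotientGroup.mk_mul, ← QuotientGroup.mk_mul, QuotientGroup.eq]
        have h := comm_mem_frattini hRp b⁻¹ a⁻¹
        have e : (a * b)⁻¹ * (b * a) = b⁻¹ * a⁻¹ * b⁻¹⁻¹ * a⁻¹⁻¹ := by group
        rw [e]
        exact h
  have hVexp : ∀ v : VV p G, v ^ p = 1 := by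
    intro v
    induction v using QuotientGroup.induction_on with
    | H a =>
      rw [← QuotientGroup.mk_pow]
      exact (QuotientGroup.eq_one_iff _).2 (pow_mem_frattini hRp a)
  have hRker : ∀ x ∈ Cfsg.pCore p G, rho p G x = 1 := by
    intro x hx
    rw [← MonoidHom.mem_ker, hker']
    exact hx
  have hAle : AQ p (Q : Subgroup G) ≤ (rho p G).range := by
    rintro _ ⟨x, -, rfl⟩
    exact ⟨x, rfl⟩
  have hAcomm : ∀ a ∈ AQ p (Q : Subgroup G), ∀ b ∈ AQ p (Q : Subgroup G), a * b = b * a := by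
    rintro _ ⟨x, hx, rfl⟩ _ ⟨y, hy, rfl⟩
    rw [← map_mul, ← map_mul]
    have e : x * y = ⁅x, y⁆ * (y * x) := by rw [commutatorElement_def]; group
    rw [e, map_mul, hRker _ (hZR (hcomm x hx y hy)), one_mul]
  have hApow : ∀ a ∈ AQ p (Q : Subgroup G), a ^ p = 1 := by
    rintro _ ⟨x, hx, rfl⟩
    rw [← map_pow]
    exact hRker _ (hZR (hpow x hx))
  have hAne : AQ p (Q : Subgroup G) ≠ ⊥ := by
    intro h
    apply hne
    apply le_antisymm
    · intro x hx
      have h1 : rho p G x ∈ AQ p (Q : Subgroup G) := ⟨x, hx, rfl⟩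
      rw [h, Subgroup.mem_bot] at h1
      rw [← hker']
      exact h1
    · exact Cfsg.Agent.Lib.Helper41.pCore_le_sylow Q
  have hoff' := hoff G p Q hG hO hSE' hne
  obtain ⟨hp23, W, U, x, hFFC⟩ :=
    hffx (VV p G) p (rho p G).range (AQ p (Q : Subgroup G)) hVcomm hVexp hrs hrc hAle hAcomm
      hApow hAne hoff'
  obtain ⟨hidx, hU⟩ := henda G p Q hG hO hSE' hne W U x hFFC
  obtain ⟨hZ2, hRidx⟩ := hendb G p Q hG hO hSE' hne W U x hFFC hidx hU
  have hzc : ∀ c : ↥(Q : Subgroup G), (c : G) ∈ zc (Q : Subgroup G) →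
      c ∈ Subgroup.center ↥(Q : Subgroup G) := by
    rintro c ⟨c', hc', hcc⟩
    have : c' = c := Subtype.ext hcc
    rw [← this]
    exact hc'
  have hzc' : ∀ c : ↥(Q : Subgroup G), c ∈ Subgroup.center ↥(Q : Subgroup G) →
      (c : G) ∈ zc (Q : Subgroup G) := fun c hc => ⟨c, hc, rfl⟩
  refine hfin ↥(Q : Subgroup G) p hQp hS hp23 ?_ ?_ ?_ ?_ ((Cfsg.pCore p G).subgroupOf Q)
    ((fr p G).subgroupOf Q) ?_ ?_ ?_ ?_ ?_
  · intro a b
    exact hzc _ (hcomm a a.2 b b.2)
  · intro a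
    exact hzc _ (hpow a a.2)
  · intro a ha z hz
    obtain ⟨v, hv, hvz⟩ := h5 a a.2 (fun h => ha (hzc a h)) z (hzc' z hz)
    exact ⟨⟨v, hv⟩, Subtype.ext hvz⟩
  · have e : (zc (Q : Subgroup G)).subgroupOf Q = Subgroup.center ↥(Q : Subgroup G) := by
      ext c
      rw [Subgroup.mem_subgroupOf]
      exact ⟨hzc c, hzc' c⟩
    rw [← e]
    exact hZ2
  · intro c hc
    rw [Subgroup.mem_subgroupOf]
    exact hZR (hzc' c hc)
  · exact hRidx
  · intro c hc
    rw [Subgroup.mem_subgroupOf] at hc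
    exact hzc c (hfrZ hc)
  · intro h
    apply hfrne
    apply le_antisymm hfrZ
    intro z hz
    have hzQ : z ∈ (Q : Subgroup G) := hZQ hz
    have h1 : (⟨z, hzQ⟩ : ↥(Q : Subgroup G)) ∈ Subgroup.center ↥(Q : Subgroup G) := hzc _ hz
    rw [← h, Subgroup.mem_subgroupOf] at h1
    exact h1
  · intro c hc
    rw [Subgroup.mem_subgroupOf] at hc ⊢
    have h1 := pow_mem_frattini hRp (⟨(c : G), hc⟩ : ↥(Cfsg.pCore p G))
    refine ⟨_, h1, ?_⟩
    simp

theorem final_of_pieces (hsch : SchStmt.{u₂}) (hred : RedStmt.{u}) (hcore : CoreStmt.{u})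
    {G : Type u} {X : Type u₂} [Group G] [Finite G] [Group X] [Finite X] (p : ℕ) [Fact p.Prime]
    (hX : Cfsg.IsMinimalNonNilpotent X) (P : Sylow p X) (hPn : (P : Subgroup X).Normal)
    (hP1 : (P : Subgroup X) ≠ ⊥) (hG : Cfsg.IsPSolvable p G) (Q : Sylow p G)
    (hQ : Nonempty (↥(Q : Subgroup G) ≃* ↥(P : Subgroup X))) : Cfsg.PLengthLE p 1 G := by
  obtain ⟨e⟩ := hQ
  have h1 : SchP p ↥(P : Subgroup X) := hsch X p hX P hPn hP1
  exact hred hcore G p Q hG (SchP.of_equiv e.symm h1)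

end Cfsg.Agent.Lib.Helper72.SC
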