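import Mathlib
import Cfsg.Prelude.Def_GeometricClasses
import Cfsg.Agent.Lib.Helper71.Asch0
import Cfsg.Agent.Lib.Helper71.Asch8
import Cfsg.Agent.Lib.Helper1.SP8EADefs

/-! Project SPG (helper71), S5823, sub-project SP8-EA (architect helper1), piece EA1 (helper72):
Witt normal form of a plus-type symmetric form in dimension 4. -/

set_option autoImplicit false

namespace Cfsg.Agent.Lib.Helper72.SP8EA1

open Matrix Cfsg.Geo Cfsg.Agent.Lib.Helper71.Asch Cfsg.Agent.Lib.Helper1.SP8EADefs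
open scoped Kronecker

variable {n : ℕ} {F : Type*} [Field F] [Fintype F]

omit [Fintype F] in
/-- a bilinear form is given by its Gram matrix -/
theorem EA1_gram {κ : Type} [Fintype κ] [DecidableEq κ] (f : (κ → F) → (κ → F) → F)
    (hbil : IsBilinearForm f) (u v : κ → F) : f u v = u ⬝ᵥ gramMatrix f *ᵥ v := by
  let B : LinearMap.BilinForm F (κ → F) :=
    LinearMap.mk₂ F f hbil.add_left hbil.smul_left hbil.add_right hbil.smul_right
  have h1 : Matrix.toBilin' (LinearMap.BilinForm.toMatrix' B) = B := Matrix.toBilin'_toMatrix' B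
  have h2 : LinearMap.BilinForm.toMatrix' B = gramMatrix f := by
    ext i j
    rw [LinearMap.BilinForm.toMatrix'_apply]
    rfl
  have h3 : B u v = u ⬝ᵥ (LinearMap.BilinForm.toMatrix' B) *ᵥ v := by
    conv_lhs => rw [← h1]
    exact Matrix.toBilin'_apply' _ u v
  rw [h2] at h3
  exact h3

omit [Fintype F] in
theorem EA1_entry {κ : Type} [Fintype κ] [DecidableEq κ] (S : Matrix (Fin 4) κ F)
    (G : Matrix (Fin 4) (Fin 4) F) (x y : κ) :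
    (Sᵀ * G * S) x y = (fun i => S i x) ⬝ᵥ G *ᵥ (fun j => S j y) := by
  simp only [Matrix.mul_apply, Matrix.transpose_apply, dotProduct, Matrix.mulVec, Finset.sum_mul,
    Finset.mul_sum]
  rw [Finset.sum_comm]
  refine Finset.sum_congr rfl fun i _ => Finset.sum_congr rfl fun j _ => by ring

omit [Fintype F] in
theorem EA1_K22_sq : (K22 : Matrix (Fin 2 → Fin 2) (Fin 2 → Fin 2) F) * K22 = 1 := by
  unfold K22
  rw [pt_mul]
  have hJ : (J2 : Matrix (Fin 2) (Fin 2) F) * J2 = -1 := by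
    unfold J2
    ext i j
    fin_cases i <;> fin_cases j <;> simp [Matrix.mul_apply, Fin.sum_univ_two]
  ext x y
  rw [pt_apply, Fin.prod_univ_two, hJ]
  simp only [Matrix.neg_apply, Matrix.one_apply]
  by_cases h0 : x 0 = y 0
  · by_cases h1 : x 1 = y 1
    · have hxy : x = y := by
        funext i
        fin_cases i
        · exact h0
        · exact h1
      rw [if_pos h0, if_pos h1, if_pos hxy]; ring
    · have hxy : x ≠ y := fun h => h1 (by rw [h])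
      rw [if_neg h1, if_neg hxy]; ring
  · have hxy : x ≠ y := fun h => h0 (by rw [h])
    rw [if_neg h0, if_neg hxy]; ring

/-- the four columns -/
def EA1_col (u₁ u₂ w₁ w₂ : Fin 4 → F) (a b : Fin 2) : Fin 4 → F :=
  if a = 0 then (if b = 0 then u₁ else u₂) else (if b = 0 then -w₂ else w₁)

omit [Fintype F] in
theorem EA1_witt (h2ne : (2 : F) ≠ 0) (f : (Fin 4 → F) → (Fin 4 → F) → F)
    (hbil : IsBilinearForm f) (hsym : ∀ u v, f u v = f v u) (hnd : IsNondegenerateForm f)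
    (u₁ u₂ : Fin 4 → F) (h11 : f u₁ u₁ = 0) (h12 : f u₁ u₂ = 0) (h22 : f u₂ u₂ = 0)
    (hu₁ : u₁ ≠ 0) (hind : ∀ c : F, u₂ - c • u₁ ≠ 0) :
    ∃ w₁ w₂ : Fin 4 → F, f u₁ w₁ = 1 ∧ f u₂ w₁ = 0 ∧ f u₁ w₂ = 0 ∧ f u₂ w₂ = 1 ∧
      f w₁ w₁ = 0 ∧ f w₂ w₂ = 0 ∧ f w₁ w₂ = 0 := by
  have hsubl : ∀ a b v, f (a - b) v = f a v - f b v := by
    intro a b v
    have h1 := hbil.add_left a ((-1 : F) • b) v
    rw [hbil.smul_left] at h1
    rw [sub_eq_add_neg, ← neg_one_smul F b, h1]; ring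
  have hsubr : ∀ v a b, f v (a - b) = f v a - f v b := by
    intro v a b
    rw [hsym v (a - b), hsubl, hsym a v, hsym b v]
  -- step A
  obtain ⟨x₁, hx₁⟩ := (hnd u₁ hu₁).2
  obtain ⟨a₁, ha₁⟩ : ∃ a₁, f u₁ a₁ = 1 :=
    ⟨(f u₁ x₁)⁻¹ • x₁, by rw [hbil.smul_right, inv_mul_cancel₀ hx₁]⟩
  obtain ⟨x₂, hx₂⟩ := (hnd _ (hind (f u₂ a₁))).2
  rw [hsubl, hbil.smul_left] at hx₂
  obtain ⟨v₀, hv₀1, hv₀2⟩ : ∃ v₀, f u₁ v₀ = 0 ∧ f u₂ v₀ ≠ 0 := by
    refine ⟨x₂ - (f u₁ x₂) • a₁, ?_, ?_⟩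
    · rw [hsubr, hbil.smul_right, ha₁]; ring
    · rw [hsubr, hbil.smul_right]
      intro h
      apply hx₂
      rw [← h]; ring
  obtain ⟨w₂', hw₂'1, hw₂'2⟩ : ∃ w, f u₁ w = 0 ∧ f u₂ w = 1 :=
    ⟨(f u₂ v₀)⁻¹ • v₀, by rw [hbil.smul_right, hv₀1, mul_zero],
      by rw [hbil.smul_right, inv_mul_cancel₀ hv₀2]⟩
  obtain ⟨w₁', hw₁'1, hw₁'2⟩ : ∃ w, f u₁ w = 1 ∧ f u₂ w = 0 :=
    ⟨a₁ - (f u₂ a₁) • w₂', by rw [hsubr, hbil.smul_right, ha₁, hw₂'1]; ring,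
      by rw [hsubr, hbil.smul_right, hw₂'2]; ring⟩
  -- step B
  obtain ⟨w₁, hw₁1, hw₁2, hw₁0⟩ : ∃ w, f u₁ w = 1 ∧ f u₂ w = 0 ∧ f w w = 0 := by
    refine ⟨w₁' - (f w₁' w₁' / 2) • u₁, ?_, ?_, ?_⟩
    · rw [hsubr, hbil.smul_right, hw₁'1, h11]; ring
    · rw [hsubr, hbil.smul_right, hw₁'2, hsym u₂ u₁, h12]; ring
    · rw [hsubl, hsubr, hsubr, hbil.smul_left, hbil.smul_right, hbil.smul_left, hbil.smul_right,
        hw₁'1, h11, hsym w₁' u₁, hw₁'1]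
      field_simp
      ring
  refine ⟨w₁, w₂' - (f w₁ w₂') • u₁ - (f w₂' w₂' / 2) • u₂, hw₁1, hw₁2, ?_, ?_, hw₁0, ?_, ?_⟩
  · rw [hsubr, hsubr, hbil.smul_right, hbil.smul_right, hw₂'1, h11, h12]; ring
  · rw [hsubr, hsubr, hbil.smul_right, hbil.smul_right, hw₂'2, hsym u₂ u₁, h12, h22]; ring
  · simp only [hsubl, hsubr, hbil.smul_left, hbil.smul_right]
    rw [hsym w₂' u₁, hw₂'1, hsym w₂' u₂, hw₂'2, h11, h12, hsym u₂ u₁, h12, h22]
    field_simp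
    ring
  · rw [hsubr, hsubr, hbil.smul_right, hbil.smul_right, hsym w₁ u₁, hw₁1, hsym w₁ u₂, hw₁2]; ring

/-- EA1: Witt normal form of a plus-type symmetric form in dimension 4. -/
theorem EA1 (h2ne : (2 : F) ≠ 0) (f₂ : (Fin 4 → F) → (Fin 4 → F) → F) (h2 : IsSymmetricForm f₂)
    (hplus : IsPlusTypeOn (fun v : Fin 4 → F => f₂ v v) ⊤) :
    ∃ (S : Matrix (Fin 4) (Fin 2 → Fin 2) F) (Si : Matrix (Fin 2 → Fin 2) (Fin 4) F),
      S * Si = 1 ∧ Si * S = 1 ∧ Sᵀ * gramMatrix f₂ * S = (K22 : Matrix (Fin 2 → Fin 2) (Fin 2 → Fin 2) F) := by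
  classical
  obtain ⟨hbil, hsym, hnd⟩ := h2
  obtain ⟨U, -, hUq, hUdim⟩ := hplus
  have hU2 : Module.finrank F U = 2 := by
    have h4 : Module.finrank F (⊤ : Submodule F (Fin 4 → F)) = 4 := by simp
    omega
  have hUU : ∀ u ∈ U, ∀ u' ∈ U, f₂ u u' = 0 := by
    intro u hu u' hu'
    have h1 : f₂ (u + u') (u + u') = 0 := hUq _ (U.add_mem hu hu')
    have hu0 : f₂ u u = 0 := hUq u hu
    have hu'0 : f₂ u' u' = 0 := hUq u' hu'
    rw [hbil.add_left, hbil.add_right, hbil.add_right, hu0, hu'0, hsym u' u] at h1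
    have h3 : (2 : F) * f₂ u u' = 0 := by linear_combination h1
    exact (mul_eq_zero.mp h3).resolve_left h2ne
  let b := Module.finBasisOfFinrankEq F U hU2
  have hu₁U : ((b 0 : U) : Fin 4 → F) ∈ U := (b 0).2
  have hu₂U : ((b 1 : U) : Fin 4 → F) ∈ U := (b 1).2
  have hu₁0 : ((b 0 : U) : Fin 4 → F) ≠ 0 := by
    intro h
    exact b.ne_zero 0 (Subtype.ext h)
  have hind : ∀ c : F, ((b 1 : U) : Fin 4 → F) - c • ((b 0 : U) : Fin 4 → F) ≠ 0 := by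
    intro c h
    have key : (-c) • (b 0) + (1 : F) • (b 1) = 0 := by
      apply Subtype.ext
      simp only [Submodule.coe_add, Submodule.coe_smul, Submodule.coe_zero, one_smul, neg_smul]
      rw [neg_add_eq_sub]
      exact h
    have h3 := Fintype.linearIndependent_iff.mp b.linearIndependent ![-c, 1] (by
      rw [Fin.sum_univ_two]
      exact key) 1
    simp at h3
  obtain ⟨w₁, w₂, e1, e2, e3, e4, e5, e6, e7⟩ := EA1_witt h2ne f₂ hbil hsym hnd _ _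
    (hUU _ hu₁U _ hu₁U) (hUU _ hu₁U _ hu₂U) (hUU _ hu₂U _ hu₂U) hu₁0 hind
  set u₁ : Fin 4 → F := ((b 0 : U) : Fin 4 → F) with hu₁def
  set u₂ : Fin 4 → F := ((b 1 : U) : Fin 4 → F) with hu₂def
  have h11 : f₂ u₁ u₁ = 0 := hUU _ hu₁U _ hu₁U
  have h12 : f₂ u₁ u₂ = 0 := hUU _ hu₁U _ hu₂U
  have h22 : f₂ u₂ u₂ = 0 := hUU _ hu₂U _ hu₂U
  have hnegl : ∀ a v, f₂ (-a) v = -f₂ a v := by
    intro a v
    rw [← neg_one_smul F a, hbil.smul_left]; ring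
  have hnegr : ∀ v a, f₂ v (-a) = -f₂ v a := by
    intro v a
    rw [← neg_one_smul F a, hbil.smul_right]; ring
  -- the table
  have htab : ∀ a b c d : Fin 2, f₂ (EA1_col u₁ u₂ w₁ w₂ a b) (EA1_col u₁ u₂ w₁ w₂ c d) =
      (J2 : Matrix (Fin 2) (Fin 2) F) a c * (J2 : Matrix (Fin 2) (Fin 2) F) b d := by
    intro a b c d
    fin_cases a <;> fin_cases b <;> fin_cases c <;> fin_cases d <;>
      simp [EA1_col, J2, hnegl, hnegr, h11, h12, h22, e1, e2, e3, e4, e5, e6, e7,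
        hsym u₂ u₁, hsym w₁ u₁, hsym w₁ u₂, hsym w₂ u₁, hsym w₂ u₂, hsym w₂ w₁]
  let S : Matrix (Fin 4) (Fin 2 → Fin 2) F :=
    Matrix.of fun i x => EA1_col u₁ u₂ w₁ w₂ (x 0) (x 1) i
  have hS : Sᵀ * gramMatrix f₂ * S = (K22 : Matrix (Fin 2 → Fin 2) (Fin 2 → Fin 2) F) := by
    ext x y
    rw [EA1_entry, ← EA1_gram f₂ hbil]
    have hx : (fun i => S i x) = EA1_col u₁ u₂ w₁ w₂ (x 0) (x 1) := rfl
    have hy : (fun j => S j y) = EA1_col u₁ u₂ w₁ w₂ (y 0) (y 1) := rfl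
    rw [hx, hy, htab]
    unfold K22
    rw [pt_apply, Fin.prod_univ_two]
  let Si : Matrix (Fin 2 → Fin 2) (Fin 4) F :=
    (K22 : Matrix (Fin 2 → Fin 2) (Fin 2 → Fin 2) F) * Sᵀ * gramMatrix f₂
  have hSiS : Si * S = (1 : Matrix (Fin 2 → Fin 2) (Fin 2 → Fin 2) F) := by
    show (K22 : Matrix (Fin 2 → Fin 2) (Fin 2 → Fin 2) F) * Sᵀ * gramMatrix f₂ * S = 1
    rw [Matrix.mul_assoc, Matrix.mul_assoc, ← Matrix.mul_assoc Sᵀ, hS, EA1_K22_sq]
  refine ⟨S, Si, ?_, hSiS, hS⟩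
  exact (Matrix.mul_eq_one_comm_of_equiv
    (Fintype.equivOfCardEq (by simp : Fintype.card (Fin 2 → Fin 2) = Fintype.card (Fin 4)))).mp hSiS

end Cfsg.Agent.Lib.Helper72.SP8EA1
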