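import Mathlib
import Cfsg.Agent.Lib.Helper72.Basic
import Cfsg.Agent.Lib.Helper72.Real

set_option autoImplicit false

namespace Cfsg.Agent.Lib.Helper72

universe u

/-- the odd part of the order of an element, and the corresponding `2`-element -/
theorem two_part' {G : Type*} [Group G] [Finite G] (c : G) :
    ∃ m e : ℕ, Odd m ∧ orderOf (c ^ m) = 2 ^ e ∧ orderOf (c ^ 2 ^ e) = m ∧ 2 ^ e * m = orderOf c := by
  have hn0 : orderOf c ≠ 0 := (orderOf_pos c).ne'
  refine ⟨orderOf c / 2 ^ (orderOf c).factorization 2, (orderOf c).factorization 2, ?_, ?_, ?_, ?_⟩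
  · rw [← Nat.not_even_iff_odd, even_iff_two_dvd]
    exact Nat.not_dvd_ordCompl Nat.prime_two hn0
  · rw [orderOf_pow_of_dvd]
    · exact Nat.div_div_self (Nat.ordProj_dvd _ _) hn0
    · exact (Nat.div_pos (Nat.le_of_dvd (Nat.pos_of_ne_zero hn0) (Nat.ordProj_dvd _ _))
        (pow_pos (by norm_num) _)).ne'
    · exact Nat.div_dvd_of_dvd (Nat.ordProj_dvd _ _)
  · rw [orderOf_pow_of_dvd (pow_pos (by norm_num) _).ne' (Nat.ordProj_dvd _ _)]
  · exact Nat.ordProj_mul_ordCompl_eq_self _ _

/-- The index of `⟨x⟩` in the full preimage of `⟨xN⟩` divides the order of `N`. -/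
theorem relIndex_comap_zpowers_dvd {G : Type*} [Group G] [Finite G] (N : Subgroup G) [N.Normal]
    (x : G) :
    (Subgroup.zpowers x).relIndex ((Subgroup.zpowers (x : G ⧸ N)).comap (QuotientGroup.mk' N)) ∣
      Nat.card N := by
  set M : Subgroup G := (Subgroup.zpowers (x : G ⧸ N)).comap (QuotientGroup.mk' N) with hM
  have hXM : Subgroup.zpowers x ≤ M := by
    rw [Subgroup.zpowers_le, hM, Subgroup.mem_comap]
    exact Subgroup.mem_zpowers _
  have h1 : (Subgroup.zpowers x).relIndex M * M.index = (Subgroup.zpowers x).index :=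
    Subgroup.relIndex_mul_index hXM
  have h2 : M.index = (Subgroup.zpowers (x : G ⧸ N)).index :=
    Subgroup.index_comap_of_surjective _ (QuotientGroup.mk'_surjective N)
  have h3 : Nat.card (Subgroup.zpowers x) * (Subgroup.zpowers x).index = Nat.card G :=
    Subgroup.card_mul_index _
  have h4 : Nat.card (Subgroup.zpowers (x : G ⧸ N)) * (Subgroup.zpowers (x : G ⧸ N)).index =
      Nat.card (G ⧸ N) := Subgroup.card_mul_index _
  have h5 : Nat.card N * Nat.card (G ⧸ N) = Nat.card G := by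
    rw [← Subgroup.index_eq_card, Subgroup.card_mul_index]
  rw [Nat.card_zpowers] at h3 h4
  obtain ⟨c, hc⟩ : orderOf (x : G ⧸ N) ∣ orderOf x := orderOf_map_dvd (QuotientGroup.mk' N) x
  have hi0 : 0 < (Subgroup.zpowers (x : G ⧸ N)).index :=
    Nat.pos_of_ne_zero Subgroup.index_ne_zero_of_finite
  have ho0 : 0 < orderOf (x : G ⧸ N) := orderOf_pos _
  have key : (Subgroup.zpowers x).relIndex M * c = Nat.card N := by
    have e1 : orderOf (x : G ⧸ N) * (Subgroup.zpowers (x : G ⧸ N)).index *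
        ((Subgroup.zpowers x).relIndex M * c) =
        orderOf (x : G ⧸ N) * (Subgroup.zpowers (x : G ⧸ N)).index * Nat.card N := by
      calc orderOf (x : G ⧸ N) * (Subgroup.zpowers (x : G ⧸ N)).index *
            ((Subgroup.zpowers x).relIndex M * c)
          = (orderOf (x : G ⧸ N) * c) * ((Subgroup.zpowers x).relIndex M * M.index) := by
            rw [h2]; ring
        _ = Nat.card G := by rw [← hc, h1, h3]
        _ = orderOf (x : G ⧸ N) * (Subgroup.zpowers (x : G ⧸ N)).index * Nat.card N := by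
            rw [h4, ← h5, mul_comm]
    exact Nat.eq_of_mul_eq_mul_left (Nat.mul_pos ho0 hi0) e1
  exact Dvd.intro _ key

/-- The property "no nontrivial element of odd order is inverted by conjugation" passes to
quotients by normal `2`-subgroups. -/
theorem noRealOdd_quotient {G : Type*} [Group G] [Finite G]
    (hG : ∀ x g : G, Odd (orderOf x) → g * x * g⁻¹ = x⁻¹ → x = 1)
    (N : Subgroup G) [N.Normal] (hN : IsPGroup 2 N) :
    ∀ x g : G ⧸ N, Odd (orderOf x) → g * x * g⁻¹ = x⁻¹ → x = 1 := by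
  intro x₀ g₀ hodd hinv
  by_contra hx1
  -- reduce to an element of prime order
  have hord1 : orderOf x₀ ≠ 1 := fun h => hx1 (orderOf_eq_one_iff.1 h)
  obtain ⟨p, hp, hpd⟩ := Nat.exists_prime_and_dvd hord1
  have hpf : Fact p.Prime := ⟨hp⟩
  have hp2 : p ≠ 2 := by
    rintro rfl
    exact (Nat.not_even_iff_odd.2 hodd) (even_iff_two_dvd.2 hpd)
  set y₀ : G ⧸ N := x₀ ^ (orderOf x₀ / p) with hy₀
  have hy₀ord : orderOf y₀ = p := by
    rw [hy₀]
    exact orderOf_pow_orderOf_div (orderOf_pos x₀).ne' hpd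
  have hy₀inv : g₀ * y₀ * g₀⁻¹ = y₀⁻¹ := by
    rw [hy₀, ← conj_pow, hinv, inv_pow]
  have hy₀p : y₀ ^ p ^ 1 = 1 := by rw [pow_one, ← hy₀ord]; exact pow_orderOf_eq_one y₀
  obtain ⟨y, hy, a, hya⟩ := exists_lift_pow_eq_one N hp y₀ 1 hy₀p
  obtain ⟨g, rfl⟩ := QuotientGroup.mk_surjective g₀
  have hoy : orderOf y ∣ p ^ a := orderOf_dvd_of_pow_eq_one hya
  obtain ⟨a', -, ha'⟩ := (Nat.dvd_prime_pow hp).1 hoy
  have hyodd : Odd (orderOf y) := by
    rw [ha']
    exact Odd.pow (hp.odd_of_ne_two hp2)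
  set M : Subgroup G := (Subgroup.zpowers (y : G ⧸ N)).comap (QuotientGroup.mk' N) with hM
  have hYM : Subgroup.zpowers (g * y * g⁻¹) ≤ M := by
    rw [Subgroup.zpowers_le, hM, Subgroup.mem_comap]
    have e : (QuotientGroup.mk' N) (g * y * g⁻¹) = (g : G ⧸ N) * (y : G ⧸ N) * (g : G ⧸ N)⁻¹ := by
      simp
    rw [e, hy, hy₀inv, ← hy]
    exact Subgroup.inv_mem _ (Subgroup.mem_zpowers _)
  have hX : IsPGroup p (Subgroup.zpowers y) :=
    IsPGroup.of_card (n := a') (by rw [Nat.card_zpowers, ha'])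
  have hY : IsPGroup p (Subgroup.zpowers (g * y * g⁻¹)) :=
    IsPGroup.of_card (n := a') (by rw [Nat.card_zpowers, orderOf_conj_eq, ha'])
  have hpN : ¬ p ∣ Nat.card N := by
    obtain ⟨k, hk⟩ := IsPGroup.iff_card.1 hN
    rw [hk]
    intro h
    exact hp2 ((Nat.prime_dvd_prime_iff_eq hp Nat.prime_two).1 (hp.dvd_of_dvd_pow h))
  have hidx : ¬ p ∣ (Subgroup.zpowers y).relIndex M := fun h =>
    hpN (h.trans (relIndex_comap_zpowers_dvd N y))
  obtain ⟨m, hmM, hm⟩ := exists_conj_mem_of_isPGroup hYM hX hY hidx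
  have hconj : m⁻¹ * (g * y * g⁻¹) * m ∈ Subgroup.zpowers y := hm _ (Subgroup.mem_zpowers _)
  obtain ⟨j, hj⟩ := Subgroup.mem_zpowers_iff.1 hconj
  -- the image of m commutes with the image of y
  have hmz : (m : G ⧸ N) ∈ Subgroup.zpowers (y : G ⧸ N) := hmM
  obtain ⟨i, hi⟩ := Subgroup.mem_zpowers_iff.1 hmz
  have hq : ((y ^ j : G) : G ⧸ N) = (y : G ⧸ N)⁻¹ := by
    rw [hj]
    have e : ((m⁻¹ * (g * y * g⁻¹) * m : G) : G ⧸ N) =
        (m : G ⧸ N)⁻¹ * ((g : G ⧸ N) * (y : G ⧸ N) * (g : G ⧸ N)⁻¹) * (m : G ⧸ N) := by simp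
    rw [e, hy, hy₀inv, ← hy, ← hi]
    have hc : Commute ((y : G ⧸ N) ^ i) (y : G ⧸ N)⁻¹ :=
      ((Commute.refl (y : G ⧸ N)).zpow_left i).inv_right
    rw [mul_assoc, hc.eq.symm, ← mul_assoc, inv_mul_cancel, one_mul]
  -- hence y ^ j = y⁻¹
  have hyj : y ^ j = y⁻¹ := by
    have h1 : y ^ j * y ∈ N := by
      rw [← QuotientGroup.eq_one_iff, QuotientGroup.mk_mul, hq, inv_mul_cancel]
    obtain ⟨k, hk⟩ := hN ⟨_, h1⟩
    have hk' : (y ^ j * y) ^ 2 ^ k = 1 := by simpa using congrArg Subtype.val hk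
    have h2 : (y ^ j * y) ^ p ^ a = 1 := by
      have : y ^ j * y = y ^ (j + 1) := by rw [zpow_add, zpow_one]
      rw [this, ← zpow_natCast, ← zpow_mul, mul_comm, zpow_mul, zpow_natCast, hya, one_zpow]
    have hd1 : orderOf (y ^ j * y) ∣ 2 ^ k := orderOf_dvd_of_pow_eq_one hk'
    have hd2 : orderOf (y ^ j * y) ∣ p ^ a := orderOf_dvd_of_pow_eq_one h2
    have hcop : Nat.Coprime (2 ^ k) (p ^ a) :=
      Nat.Coprime.pow _ _ ((Nat.coprime_primes Nat.prime_two hp).2 (Ne.symm hp2))
    have hone : y ^ j * y = 1 := orderOf_eq_one_iff.1 (Nat.eq_one_of_dvd_coprimes hcop hd1 hd2)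
    exact eq_inv_of_mul_eq_one_left hone
  have hfin : (m⁻¹ * g) * y * (m⁻¹ * g)⁻¹ = y⁻¹ := by
    have e : (m⁻¹ * g) * y * (m⁻¹ * g)⁻¹ = m⁻¹ * (g * y * g⁻¹) * m := by group
    rw [e, ← hj, hyj]
  have hy1 : y = 1 := hG y (m⁻¹ * g) hyodd hfin
  have : y₀ = 1 := by rw [← hy, hy1]; rfl
  rw [this, orderOf_one] at hy₀ord
  exact hp.one_lt.ne hy₀ord

/-- In a Sylow subgroup, a proper subgroup is properly contained in its normalizer. -/
theorem exists_mem_normalizer_not_mem {G : Type*} [Group G] [Finite G] {p : ℕ} [Fact p.Prime]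
    (S : Sylow p G) {D : Subgroup G} (hDS : D ≤ S) (hne : D ≠ S) :
    ∃ s : G, s ∈ (S : Subgroup G) ∧ s ∉ D ∧ s ∈ Subgroup.normalizer (D : Set G) := by
  have hnil : Group.IsNilpotent (S : Subgroup G) := S.isPGroup'.isNilpotent
  have hlt : D.subgroupOf S < ⊤ := by
    rw [lt_top_iff_ne_top]
    intro h
    rw [Subgroup.subgroupOf_eq_top] at h
    exact hne (le_antisymm hDS h)
  have hnc := Group.normalizerCondition_of_isNilpotent (G := (S : Subgroup G)) _ hlt
  obtain ⟨s, hsN, hsD⟩ := SetLike.exists_of_lt hnc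
  refine ⟨(s : G), s.2, fun h => hsD (Subgroup.mem_subgroupOf.2 h), ?_⟩
  apply mem_normalizer_of_conj_mem
  intro d hd
  have h1 : (⟨d, hDS hd⟩ : (S : Subgroup G)) ∈ D.subgroupOf S := Subgroup.mem_subgroupOf.2 hd
  have h2 := (Subgroup.mem_set_normalizer_iff.1 hsN _).1 h1
  exact Subgroup.mem_subgroupOf.1 h2

/-- Two involutions generating a non-`2`-group invert a nontrivial element of odd order. -/
theorem isPGroup_two_of_involutions {G : Type*} [Group G] [Finite G]
    (hG : ∀ x g : G, Odd (orderOf x) → g * x * g⁻¹ = x⁻¹ → x = 1)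
    {s t : G} (hs : s * s = 1) (ht : t * t = 1) :
    ∃ Q : Subgroup G, IsPGroup 2 Q ∧ s ∈ Q ∧ t ∈ Q := by
  have h2 : Fact (Nat.Prime 2) := ⟨Nat.prime_two⟩
  have hsinv : s⁻¹ = s := inv_eq_of_mul_eq_one_left hs
  have htinv : t⁻¹ = t := inv_eq_of_mul_eq_one_left ht
  have hinv : s * (s * t) * s⁻¹ = (s * t)⁻¹ := by
    rw [mul_inv_rev, hsinv, htinv, ← mul_assoc, hs, one_mul]
  obtain ⟨m, e, hm, hme, hem, hprod⟩ := two_part' (s * t)
  have hinv2 : s * (s * t) ^ 2 ^ e * s⁻¹ = ((s * t) ^ 2 ^ e)⁻¹ := by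
    rw [← conj_pow, hinv, inv_pow]
  have h1 : (s * t) ^ 2 ^ e = 1 := hG _ s (by rw [hem]; exact hm) hinv2
  have hm1 : m = 1 := by rw [← hem, h1, orderOf_one]
  have hord : orderOf (s * t) = 2 ^ e := by rw [← hprod, hm1, mul_one]
  have hy2 : IsPGroup 2 (Subgroup.zpowers (s * t)) :=
    IsPGroup.of_card (n := e) (by rw [Nat.card_zpowers, hord])
  have hs2 : IsPGroup 2 (Subgroup.zpowers s) := by
    rintro ⟨g, hg⟩
    obtain ⟨i, rfl⟩ := Subgroup.mem_zpowers_iff.1 hg
    refine ⟨1, Subtype.ext ?_⟩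
    have hs' : s ^ (2 : ℤ) = 1 := by rw [zpow_ofNat, pow_two, hs]
    simp only [pow_one, Subgroup.coe_pow, Subgroup.coe_one]
    rw [← zpow_natCast, ← zpow_mul, mul_comm, zpow_mul]
    simp [hs']
  have hsn : Subgroup.zpowers s ≤ Subgroup.normalizer ((Subgroup.zpowers (s * t) : Subgroup G) : Set G) := by
    rw [Subgroup.zpowers_le]
    apply mem_normalizer_zpowers_of_conj_mem
    rw [hinv]
    exact Subgroup.inv_mem _ (Subgroup.mem_zpowers _)
  refine ⟨Subgroup.zpowers s ⊔ Subgroup.zpowers (s * t),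
    IsPGroup.to_sup_of_normal_right' hs2 hy2 hsn, Subgroup.mem_sup_left (Subgroup.mem_zpowers s), ?_⟩
  have ht' : s⁻¹ * (s * t) ∈ Subgroup.zpowers s ⊔ Subgroup.zpowers (s * t) :=
    Subgroup.mul_mem _ (Subgroup.inv_mem _ (Subgroup.mem_sup_left (Subgroup.mem_zpowers s)))
      (Subgroup.mem_sup_right (Subgroup.mem_zpowers _))
  rwa [inv_mul_cancel_left] at ht'

/-- A finite group in which no nontrivial element of odd order is inverted by conjugation has a
normal Sylow `2`-subgroup. -/
theorem sylow_two_normal_aux : ∀ (n : ℕ) (G : Type u) [Group G] [Finite G], Nat.card G = n →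
    (∀ x g : G, Odd (orderOf x) → g * x * g⁻¹ = x⁻¹ → x = 1) →
    ∀ S : Sylow 2 G, (S : Subgroup G).Normal := by
  intro n
  induction n using Nat.strong_induction_on with
  | _ n ih =>
    intro G _ _ hcard hG S
    have h2 : Fact (Nat.Prime 2) := ⟨Nat.prime_two⟩
    by_cases hex : ∃ N : Subgroup G, N.Normal ∧ IsPGroup 2 N ∧ N ≠ ⊥
    · -- pass to the quotient
      obtain ⟨N, hNn, hN2, hNne⟩ := hex
      have hlt : Nat.card (G ⧸ N) < n := by
        have h1 : Nat.card G = Nat.card (G ⧸ N) * Nat.card N :=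
          Subgroup.card_eq_card_quotient_mul_card_subgroup N
        have h2' : 1 < Nat.card N := by
          rw [Nat.one_lt_iff_ne_zero_and_ne_one]
          exact ⟨Nat.card_pos.ne', fun h => hNne ((Subgroup.eq_bot_iff_card N).2 h)⟩
        have h3 : 0 < Nat.card (G ⧸ N) := Nat.card_pos
        rw [← hcard, h1]
        nlinarith
      have hq := ih (Nat.card (G ⧸ N)) hlt (G ⧸ N) rfl (noRealOdd_quotient hG N hN2)
        (S.mapSurjective (QuotientGroup.mk'_surjective N))
      rw [Sylow.coe_mapSurjective] at hq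
      have hNS : N ≤ S := hN2.le_sylow_of_normal S
      have hcm : ((S : Subgroup G).map (QuotientGroup.mk' N)).comap (QuotientGroup.mk' N) = S := by
        rw [Subgroup.comap_map_eq, QuotientGroup.ker_mk', sup_eq_left]
        exact hNS
      rw [← hcm]
      exact hq.comap _
    · -- no nontrivial normal 2-subgroup: Sylow 2-subgroups intersect trivially
      push Not at hex
      suffices hsub : Subsingleton (Sylow 2 G) from Sylow.normal_of_subsingleton S
      by_contra hnsub
      rw [not_subsingleton_iff_nontrivial] at hnsub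
      obtain ⟨S₀, T₀, hST₀⟩ := exists_pair_ne (Sylow 2 G)
      have hne : Nonempty {pq : Sylow 2 G × Sylow 2 G // pq.1 ≠ pq.2} := ⟨⟨(S₀, T₀), hST₀⟩⟩
      obtain ⟨⟨⟨S₁, T₁⟩, hST⟩, hmax⟩ := Finite.exists_max
        (fun pq : {pq : Sylow 2 G × Sylow 2 G // pq.1 ≠ pq.2} =>
          Nat.card ((pq.1.1 : Subgroup G) ⊓ (pq.1.2 : Subgroup G) : Subgroup G))
      simp only at hST
      have hmax' : ∀ S' T' : Sylow 2 G, S' ≠ T' →
          Nat.card ((S' : Subgroup G) ⊓ (T' : Subgroup G) : Subgroup G) ≤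
            Nat.card ((S₁ : Subgroup G) ⊓ (T₁ : Subgroup G) : Subgroup G) :=
        fun S' T' h => hmax ⟨(S', T'), h⟩
      set D : Subgroup G := (S₁ : Subgroup G) ⊓ (T₁ : Subgroup G) with hD
      have hDbot : D = ⊥ := by
        by_contra hDne
        have hD2 : IsPGroup 2 D := S₁.isPGroup'.to_le inf_le_left
        set K : Subgroup G := Subgroup.normalizer (D : Set G) with hK
        have hKtop : K ≠ ⊤ := by
          intro h
          exact hDne (hex D (Subgroup.normalizer_eq_top_iff.1 h) hD2)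
        have hKlt : Nat.card K < n := by
          rw [← hcard]
          exact lt_of_le_of_ne (Subgroup.card_le_card_group K)
            (fun h => hKtop (Subgroup.eq_top_of_card_eq K h))
        have hKG : ∀ x g : K, Odd (orderOf x) → g * x * g⁻¹ = x⁻¹ → x = 1 := by
          intro x g hx hg
          apply Subtype.ext
          apply hG (x : G) (g : G)
          · rw [Subgroup.orderOf_coe]; exact hx
          · have := congrArg Subtype.val hg
            simpa using this
        have hKn := ih (Nat.card K) hKlt K rfl hKG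
        obtain ⟨R₀⟩ : Nonempty (Sylow 2 K) := inferInstance
        have hR₀n : (R₀ : Subgroup K).Normal := hKn R₀
        have huniq : ∀ Q : Subgroup K, IsPGroup 2 Q → Q ≤ R₀ := by
          intro Q hQ
          obtain ⟨R₁, hR₁⟩ := hQ.exists_le_sylow
          obtain ⟨k, hk⟩ := MulAction.exists_smul_eq K R₀ R₁
          rw [Sylow.smul_eq_of_normal] at hk
          rw [hk]; exact hR₁
        have hR₀2 : IsPGroup 2 ((R₀ : Subgroup K).map K.subtype) := R₀.isPGroup'.map _
        obtain ⟨R, hR⟩ := hR₀2.exists_le_sylow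
        have hSK : ∀ (S' : Sylow 2 G) (s : G), s ∈ (S' : Subgroup G) → s ∈ K → s ∈ (R : Subgroup G) := by
          intro S' s hs hsK
          apply hR
          rw [Subgroup.mem_map]
          refine ⟨⟨s, hsK⟩, ?_, rfl⟩
          exact huniq ((S' : Subgroup G).subgroupOf K) (S'.isPGroup'.comap_subtype)
            (Subgroup.mem_subgroupOf.2 hs)
        have hDK : D ≤ K := Subgroup.le_normalizer
        have key : ∀ S' : Sylow 2 G, D ≤ S' → D ≠ (S' : Subgroup G) →
            Nat.card D < Nat.card ((S' : Subgroup G) ⊓ (R : Subgroup G) : Subgroup G) := by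
          intro S' hDS' hDne'
          obtain ⟨s, hsS, hsD, hsN⟩ := exists_mem_normalizer_not_mem S' hDS' hDne'
          have hle : D ≤ (S' : Subgroup G) ⊓ (R : Subgroup G) :=
            le_inf hDS' (fun d hd => hSK S' d (hDS' hd) (hDK hd))
          have hsR : s ∈ (S' : Subgroup G) ⊓ (R : Subgroup G) := ⟨hsS, hSK S' s hsS hsN⟩
          refine lt_of_le_of_ne (Subgroup.card_le_of_le hle) (fun h => hsD ?_)
          have := Subgroup.eq_of_le_of_card_ge hle h.ge
          rw [this]; exact hsR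
        have hS₁D : D ≠ (S₁ : Subgroup G) := by
          intro h
          have hle : (S₁ : Subgroup G) ≤ T₁ := h ▸ inf_le_right
          exact hST (Sylow.ext (S₁.is_maximal' T₁.isPGroup' hle).symm)
        have hT₁D : D ≠ (T₁ : Subgroup G) := by
          intro h
          have hle : (T₁ : Subgroup G) ≤ S₁ := h ▸ inf_le_left
          exact hST (Sylow.ext (T₁.is_maximal' S₁.isPGroup' hle))
        have hS₁R : S₁ = R := by
          by_contra hne'
          exact absurd (hmax' S₁ R hne') (not_le.2 (key S₁ inf_le_left hS₁D))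
        have hT₁R : T₁ = R := by
          by_contra hne'
          exact absurd (hmax' T₁ R hne') (not_le.2 (key T₁ inf_le_right hT₁D))
        exact hST (hS₁R.trans hT₁R.symm)
      have hTI : ∀ S' T' : Sylow 2 G, S' ≠ T' → ∀ z : G, z ∈ (S' : Subgroup G) →
          z ∈ (T' : Subgroup G) → z = 1 := by
        intro S' T' hne' z hzS hzT
        have h1 := hmax' S' T' hne'
        rw [hDbot, Subgroup.card_bot] at h1
        have := Subgroup.eq_bot_of_card_le _ h1
        have hz : z ∈ (S' : Subgroup G) ⊓ (T' : Subgroup G) := ⟨hzS, hzT⟩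
        rw [this, Subgroup.mem_bot] at hz
        exact hz
      -- involutions
      have hinvol : ∀ S' : Sylow 2 G, ∃ s : G, s ∈ (S' : Subgroup G) ∧ s ≠ 1 ∧ s * s = 1 := by
        intro S'
        have hc : 2 ∣ Nat.card (S' : Subgroup G) := by
          rw [Sylow.card_eq_multiplicity]
          apply dvd_pow_self
          intro h0
          have hbot : ∀ S'' : Sylow 2 G, (S'' : Subgroup G) = ⊥ := by
            intro S''
            apply (Subgroup.eq_bot_iff_card _).2
            rw [Sylow.card_eq_multiplicity, h0, pow_zero]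
          exact hST₀ (Sylow.ext ((hbot S₀).trans (hbot T₀).symm))
        obtain ⟨s, hs⟩ := exists_prime_orderOf_dvd_card' (G := (S' : Subgroup G)) 2 hc
        refine ⟨(s : G), s.2, ?_, ?_⟩
        · intro h
          have : s = 1 := Subtype.ext h
          rw [this, orderOf_one] at hs
          exact absurd hs (by norm_num)
        · have := pow_orderOf_eq_one s
          rw [hs, pow_two] at this
          simpa using congrArg Subtype.val this
      obtain ⟨s, hsS, hs1, hss⟩ := hinvol S₁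
      obtain ⟨t, htT, ht1, htt⟩ := hinvol T₁
      obtain ⟨Q, hQ2, hsQ, htQ⟩ := isPGroup_two_of_involutions hG hss htt
      obtain ⟨R, hR⟩ := hQ2.exists_le_sylow
      have hS₁R : S₁ = R := by
        by_contra hne'
        exact hs1 (hTI S₁ R hne' s hsS (hR hsQ))
      have hT₁R : T₁ = R := by
        by_contra hne'
        exact ht1 (hTI T₁ R hne' t htT (hR htQ))
      exact hST (hS₁R.trans hT₁R.symm)

theorem centralizer_zpowers_eq {G : Type*} [Group G] (x : G) :
    Subgroup.centralizer ((Subgroup.zpowers x : Subgroup G) : Set G) =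
      Subgroup.centralizer ({x} : Set G) := by
  ext a
  rw [Subgroup.mem_centralizer_iff, mem_centralizer_singleton_iff']
  constructor
  · intro h; exact h x (Subgroup.mem_zpowers x)
  · intro h y hy
    obtain ⟨k, rfl⟩ := Subgroup.mem_zpowers_iff.1 hy
    have hc : Commute x a := h
    exact (hc.zpow_left k).eq

/-- If `g` inverts `x` and `x` is not an involution, the centralizer of `x` has index two in a
subgroup of the normalizer of `⟨x⟩`. -/
theorem exists_relIndex_two {G : Type*} [Group G] [Finite G] {x g : G} (hg : g * x * g⁻¹ = x⁻¹)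
    (hxx : x ≠ x⁻¹) :
    ∃ K : Subgroup G, Subgroup.centralizer ({x} : Set G) ≤ K ∧
      (Subgroup.centralizer ({x} : Set G)).relIndex K = 2 ∧
      K ≤ Subgroup.normalizer ((Subgroup.zpowers x : Subgroup G) : Set G) := by
  let N₂ : Subgroup G :=
    { carrier := {a | a * x * a⁻¹ = x ∨ a * x * a⁻¹ = x⁻¹}
      one_mem' := Or.inl (by simp)
      mul_mem' := by
        intro a b ha hb
        have e : a * b * x * (a * b)⁻¹ = a * (b * x * b⁻¹) * a⁻¹ := by group
        have hinv : a * x⁻¹ * a⁻¹ = (a * x * a⁻¹)⁻¹ := by group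
        rcases ha with ha | ha <;> rcases hb with hb | hb
        · left; rw [e, hb, ha]
        · right; rw [e, hb, hinv, ha]
        · right; rw [e, hb, ha]
        · left; rw [e, hb, hinv, ha, inv_inv]
      inv_mem' := by
        intro a ha
        rcases ha with ha | ha
        · left
          calc a⁻¹ * x * a⁻¹⁻¹ = a⁻¹ * (a * x * a⁻¹) * a := by rw [ha, inv_inv]
            _ = x := by group
        · right
          have hx' : x = a * x⁻¹ * a⁻¹ := by
            have : a * x⁻¹ * a⁻¹ = (a * x * a⁻¹)⁻¹ := by group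
            rw [this, ha, inv_inv]
          calc a⁻¹ * x * a⁻¹⁻¹ = a⁻¹ * (a * x⁻¹ * a⁻¹) * a := by rw [← hx', inv_inv]
            _ = x⁻¹ := by group }
  refine ⟨N₂, ?_, ?_, ?_⟩
  · intro a ha
    left
    have := mem_centralizer_singleton_iff'.1 ha
    rw [← this]; group
  · rw [Subgroup.relIndex_eq_two_iff]
    refine ⟨g, Or.inr hg, ?_⟩
    intro b hb
    have e : b * g * x * (b * g)⁻¹ = b * (g * x * g⁻¹) * b⁻¹ := by group
    have hinv : b * x⁻¹ * b⁻¹ = (b * x * b⁻¹)⁻¹ := by group
    have hcen : ∀ a : G, a ∈ Subgroup.centralizer ({x} : Set G) ↔ a * x * a⁻¹ = x := by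
      intro a
      rw [mem_centralizer_singleton_iff']
      constructor
      · intro h; rw [← h]; group
      · intro h
        calc x * a = (a * x * a⁻¹) * a := by rw [h]
          _ = a * x := by group
    rw [hcen, hcen, e, hg, hinv]
    rcases hb with hb | hb
    · right
      refine ⟨hb, ?_⟩
      rw [hb]; exact fun h => hxx h.symm
    · left
      refine ⟨by rw [hb, inv_inv], ?_⟩
      rw [hb]; exact fun h => hxx h.symm
  · intro a ha
    apply mem_normalizer_zpowers_of_conj_mem
    rcases ha with ha | ha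
    · rw [ha]; exact Subgroup.mem_zpowers x
    · rw [ha]; exact Subgroup.inv_mem _ (Subgroup.mem_zpowers x)

theorem sylow_two_normal_of_noRealOdd {G : Type*} [Group G] [Finite G]
    (hG : ∀ x g : G, Odd (orderOf x) → g * x * g⁻¹ = x⁻¹ → x = 1) (S : Sylow 2 G) :
    (S : Subgroup G).Normal :=
  sylow_two_normal_aux (Nat.card G) G rfl hG S

end Cfsg.Agent.Lib.Helper72
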